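import Groth.Agent.ContractUP.Basic
import Groth.Agent.ZarConn.Basic
import Groth.Agent.FlatMisc.SteinUC
import Groth.Agent.S1297

/-!
# The target of a contraction of a proper scheme is proper
-/

noncomputable section

set_option autoImplicit false
set_option linter.style.haveILetI false
set_option linter.unusedSectionVars false
set_option backward.isDefEq.respectTransparency false
set_option backward.isDefEq.respectTransparency.types false
set_option maxHeartbeats 1000000

universe u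

open CategoryTheory CategoryTheory.Limits AlgebraicGeometry TopologicalSpace

namespace Groth.Agent.SurfModel

open Groth.Agent

variable {R : CommRingCat.{u}} {X X' : Scheme.{u}} (p : X ⟶ Spec R) (b : X ⟶ X') (p' : X' ⟶ Spec R)

theorem isSeparated_of_contraction [IsProper p] [IsProper b] [Surjective b] (h : b ≫ p' = p) : IsSeparated p' := by
  let m : pullback p p ⟶ pullback p' p' :=
    pullback.map p p p' p' b b (𝟙 _) (by rw [Category.comp_id, h]) (by rw [Category.comp_id, h])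
  haveI : IsProper m := MorphismProperty.pullbackMap (P := @IsProper) ‹IsProper b› ‹IsProper b› h.symm h.symm
  have he : b ≫ pullback.diagonal p' = pullback.diagonal p ≫ m := by apply pullback.hom_ext <;> simp [m]
  haveI : UniversallyClosed (b ≫ pullback.diagonal p') := he ▸ inferInstance
  haveI : UniversallyClosed (pullback.diagonal p') := UniversallyClosed.of_comp_surjective b _
  exact ⟨IsClosedImmersion.of_isPreimmersion _ (pullback.diagonal p').isClosedMap.isClosed_range⟩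

/-- Finite type of the target near the point to which the curve is contracted. -/
theorem exists_locallyOfFiniteType_nhd [IsNoetherianRing R] [IsProper p] [IsProper b] [Surjective b]
    [IsNoetherian X'] (h : b ≫ p' = p) (hO : ∀ V : X'.Opens, IsIso (b.app V)) {y : X'}
    (hy : IsClosed ({y} : Set X')) : ∃ O : X'.Opens, y ∈ O ∧ LocallyOfFiniteType (O.ι ≫ p') := by
  classical
  haveI : IsLocallyNoetherian X := LocallyOfFiniteType.isLocallyNoetherian b
  obtain ⟨U, hU, hyU, -⟩ := exists_isAffineOpen_mem_and_subset (X := X') (x := y) (U := ⊤) trivial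
  haveI : IsAffine (U : Scheme.{u}) := hU
  haveI : IsNoetherianRing Γ(X', U) := IsLocallyNoetherian.component_noetherian ⟨U, hU⟩
  obtain ⟨s, hs⟩ : (hU.primeIdealOf ⟨y, hyU⟩).asIdeal.FG := IsNoetherian.noetherian _
  let ρ : R ⟶ Γ(X', U) := (Scheme.ΓSpecIso R).inv ≫ p'.appLE ⊤ U (by simp)
  let φ : MvPolynomial ↥s R →+* Γ(X', U) := MvPolynomial.eval₂Hom ρ.hom fun i => i.1
  let S₀ : Scheme.{u} := Spec (CommRingCat.of (MvPolynomial ↥s R))
  let π : S₀ ⟶ Spec R := Spec.map (CommRingCat.ofHom MvPolynomial.C)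
  let hh : (U : Scheme.{u}) ⟶ S₀ := hU.isoSpec.hom ≫ Spec.map (CommRingCat.ofHom φ)
  have hhπ : hh ≫ π = U.ι ≫ p' := by
    have e : CommRingCat.ofHom MvPolynomial.C ≫ CommRingCat.ofHom φ = ρ :=
      CommRingCat.hom_ext (RingHom.ext fun r => MvPolynomial.eval₂Hom_C ρ.hom _ r)
    simp only [hh, π, Category.assoc, ← Spec.map_comp, e]
    simp only [ρ, Spec.map_comp]
    have h2 := (isAffineOpen_top (Spec R)).SpecMap_appLE_fromSpec p' hU (show U ≤ p' ⁻¹ᵁ ⊤ by simp)
    rw [IsAffineOpen.fromSpec_top, Scheme.isoSpec_Spec_inv] at h2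
    rw [h2, ← Category.assoc, hU.isoSpec_hom, ← hU.toSpecΓ_fromSpec]
  haveI : IsNoetherianRing (CommRingCat.of (MvPolynomial ↥s R)) := inferInstanceAs (IsNoetherianRing (MvPolynomial ↥s R))
  haveI : LocallyOfFiniteType π := by
    refine HasRingHomProperty.Spec_iff.2 ?_
    exact RingHom.finiteType_algebraMap.2 (inferInstance : Algebra.FiniteType R (MvPolynomial ↥s R))
  -- the graph
  let bU := b ∣_ U
  let q : (b ⁻¹ᵁ U : Scheme.{u}) ⟶ S₀ := bU ≫ hh
  let j : (b ⁻¹ᵁ U : Scheme.{u}) ⟶ pullback p π := pullback.lift (b ⁻¹ᵁ U).ι q (by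
    simp only [q, bU, Category.assoc, hhπ, ← h]
    rw [← Category.assoc _ U.ι p', morphismRestrict_ι, Category.assoc])
  haveI : IsImmersion (j ≫ pullback.fst p π) := by rw [pullback.lift_fst]; infer_instance
  haveI : IsImmersion j := IsImmersion.of_comp j (pullback.fst p π)
  haveI : IsProper (pullback.snd p π) := MorphismProperty.pullback_snd _ _ inferInstance
  haveI : IsLocallyNoetherian (pullback p π) := LocallyOfFiniteType.isLocallyNoetherian (pullback.snd p π)
  haveI : CompactSpace X := QuasiCompact.compactSpace_of_compactSpace p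
  haveI : AlgebraicGeometry.IsNoetherian X := {}
  haveI : QuasiCompact (j ≫ pullback.fst p π) := by rw [pullback.lift_fst]; infer_instance
  haveI : QuasiCompact j := QuasiCompact.of_comp j (pullback.fst p π)
  let Γb := j.image
  let o : (b ⁻¹ᵁ U : Scheme.{u}) ⟶ Γb := j.toImage
  haveI : IsOpenImmersion o := inferInstanceAs (IsOpenImmersion j.toImage)
  let c : Γb ⟶ S₀ := j.imageι ≫ pullback.snd p π
  haveI : IsProper c := inferInstance
  have hoc : o ≫ c = q := by
    show j.toImage ≫ j.imageι ≫ _ = _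
    rw [Scheme.Hom.toImage_imageι_assoc, pullback.lift_snd]
  -- the Stein factorisation
  let st : Γb ⟶ Spec Γ(Γb, ⊤) := Γb.toSpecΓ
  have hfin : c.appTop.hom.Finite := S1297.finite_app c (isAffineOpen_top _)
  haveI : IsNoetherianRing Γ(S₀, ⊤) :=
    isNoetherianRing_of_ringEquiv _ (Scheme.ΓSpecIso (CommRingCat.of (MvPolynomial ↥s R))).symm.commRingCatIsoToRingEquiv
  haveI : IsNoetherianRing Γ(Γb, ⊤) := by
    letI := c.appTop.hom.toAlgebra
    haveI : Module.Finite Γ(S₀, ⊤) Γ(Γb, ⊤) := hfin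
    exact isNoetherianRing_of_surjective _ _ (MvPolynomial.aeval (R := Γ(S₀, ⊤))
      (fun i : ↥(Module.Finite.fg_top (R := Γ(S₀, ⊤)) (M := Γ(Γb, ⊤))).choose => i.1)).toRingHom fun x => by
        have hx : x ∈ Algebra.adjoin Γ(S₀, ⊤) (Set.range fun i : ↥(Module.Finite.fg_top (R := Γ(S₀, ⊤)) (M := Γ(Γb, ⊤))).choose => i.1) :=
          Algebra.span_le_adjoin _ _ (by
            show x ∈ Submodule.span _ (Set.range Subtype.val)
            rw [Subtype.range_coe, (Module.Finite.fg_top (R := Γ(S₀, ⊤)) (M := Γ(Γb, ⊤))).choose_spec]; trivial)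
        rw [Algebra.adjoin_range_eq_range_aeval] at hx
        exact hx
  let χ : Spec Γ(Γb, ⊤) ⟶ S₀ := Spec.map c.appTop ≫ S₀.isoSpec.inv
  have hstχ : st ≫ χ = c := by
    show Γb.toSpecΓ ≫ Spec.map c.appTop ≫ S₀.isoSpec.inv = c
    rw [← Scheme.toSpecΓ_naturality_assoc]
    simp
  haveI : IsProper (st ≫ χ) := hstχ.symm ▸ inferInstance
  haveI : IsProper st := IsProper.of_comp st χ
  have hstO : ∀ V, IsIso (st.app V) := FlatMisc.isIso_app_of_bijective_affine st fun z =>
    ⟨⊤, isAffineOpen_top _, trivial, by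
      show Function.Bijective Γb.toSpecΓ.appTop
      rw [Scheme.toSpecΓ_appTop]
      exact ConcreteCategory.bijective_of_isIso _⟩
  -- the map from `U`
  haveI : IsIso bU.appTop := ContractUP.isIso_restrict_app b hO U ⊤
  let θ : Γ(Γb, ⊤) ⟶ Γ((U : Scheme.{u}), ⊤) := o.appTop ≫ inv bU.appTop
  let ψ : (U : Scheme.{u}) ⟶ Spec Γ(Γb, ⊤) := (U : Scheme.{u}).toSpecΓ ≫ Spec.map θ
  have hψ : bU ≫ ψ = o ≫ st := by
    simp only [ψ, θ, st]
    rw [Scheme.toSpecΓ_naturality_assoc, ← Spec.map_comp, Category.assoc, IsIso.inv_hom_id, Category.comp_id]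
    exact (Scheme.toSpecΓ_naturality o).symm
  haveI : Surjective bU := MorphismProperty.of_isPullback (P := @Surjective) (isPullback_morphismRestrict b U).flip ‹Surjective b›
  -- the fibre
  let y₀ : (U : Scheme.{u}) := ⟨y, hyU⟩
  have hχψ : ∀ u : (U : Scheme.{u}), χ (ψ u) = hh u := fun u => by
    obtain ⟨z, rfl⟩ := bU.surjective u
    calc χ (ψ (bU z)) = (bU ≫ ψ ≫ χ) z := rfl
      _ = q z := by rw [← Category.assoc, hψ, Category.assoc, hstχ, hoc]
      _ = hh (bU z) := rfl
  have honly : ∀ u : (U : Scheme.{u}), ψ u = ψ y₀ → u = y₀ := fun u hu => by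
    have h1 : hh u = hh y₀ := by rw [← hχψ, hu, hχψ]
    have h2 : (hU.primeIdealOf u).asIdeal.comap φ = (hU.primeIdealOf y₀).asIdeal.comap φ :=
      congrArg PrimeSpectrum.asIdeal h1
    have hle : (hU.primeIdealOf y₀).asIdeal ≤ (hU.primeIdealOf u).asIdeal := by
      show (hU.primeIdealOf ⟨y, hyU⟩).asIdeal ≤ _
      rw [← hs, Ideal.span_le]
      intro a ha
      have ha' : MvPolynomial.X (⟨a, ha⟩ : ↥s) ∈ (hU.primeIdealOf y₀).asIdeal.comap φ := by
        rw [Ideal.mem_comap, MvPolynomial.eval₂Hom_X']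
        show a ∈ (hU.primeIdealOf ⟨y, hyU⟩).asIdeal
        rw [← hs]
        exact Ideal.subset_span ha
      rw [← h2, Ideal.mem_comap, MvPolynomial.eval₂Hom_X'] at ha'
      exact ha'
    have hsp : y ⤳ u.1 := by
      have := ((PrimeSpectrum.le_iff_specializes _ _).1 hle).map hU.fromSpec.continuous
      rwa [hU.fromSpec_primeIdealOf, hU.fromSpec_primeIdealOf] at this
    refine Subtype.ext ?_
    have h3 := hsp.mem_closure
    rw [hy.closure_eq] at h3
    exact h3
  -- the curve is closed in the compactified fibre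
  let Es : Closeds X := ⟨b ⁻¹' {y}, hy.preimage b.continuous⟩
  let iE : (Scheme.IdealSheafData.vanishingIdeal Es).subscheme ⟶ X :=
    (Scheme.IdealSheafData.vanishingIdeal Es).subschemeι
  have hrE : Set.range iE = b ⁻¹' {y} := by
    rw [Scheme.IdealSheafData.range_subschemeι, Scheme.IdealSheafData.coe_support_vanishingIdeal]
    rfl
  let lE := IsOpenImmersion.lift (b ⁻¹ᵁ U).ι iE (by
    rw [hrE, Scheme.Opens.range_ι]
    rintro z (hz : b z = y)
    show b z ∈ U
    rw [hz]; exact hyU)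
  have hlE : lE ≫ (b ⁻¹ᵁ U).ι = iE := IsOpenImmersion.lift_fac _ _ _
  haveI : IsProper (lE ≫ o) := by
    haveI : IsProper ((lE ≫ o) ≫ j.imageι ≫ pullback.fst p π ≫ p) := by
      rw [Category.assoc, Scheme.Hom.toImage_imageι_assoc, pullback.lift_fst_assoc, ← Category.assoc, hlE]
      infer_instance
    exact IsProper.of_comp _ (j.imageι ≫ pullback.fst p π ≫ p)
  have hEcl : IsClosed (Set.range (lE ≫ o)) := (lE ≫ o).isClosedMap.isClosed_range
  haveI : IsLocallyNoetherian (Spec Γ(Γb, ⊤)) := inferInstance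
  let n := ψ y₀
  have hconn : _root_.IsPreconnected (Set.range (st.fiberι n)) := by
    haveI : ConnectedSpace ↥(st.fiber n) :=
      ZarConn.connectedSpace_pullback st hstO (K := (Spec Γ(Γb, ⊤)).residueField n)
        ((Spec Γ(Γb, ⊤)).fromSpecResidueField n)
    exact isPreconnected_range (st.fiberι n).continuous
  rw [st.range_fiberι] at hconn
  have hmem : ∀ z : (b ⁻¹ᵁ U : Scheme.{u}), st (o z) = n → o z ∈ Set.range (lE ≫ o) := fun z hz => by
    rw [← Scheme.Hom.comp_apply, ← hψ, Scheme.Hom.comp_apply] at hz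
    have h1 : b z.1 = y := by
      have := congrArg Subtype.val (honly _ hz)
      rwa [morphismRestrict_base_coe] at this
    obtain ⟨e, he⟩ : z.1 ∈ Set.range iE := hrE.ge h1
    refine ⟨e, congrArg o ((b ⁻¹ᵁ U).ι.isOpenEmbedding.injective ?_)⟩
    show (lE ≫ (b ⁻¹ᵁ U).ι) e = z.1
    rw [hlE]
    exact he
  have hsub : st ⁻¹' {n} ⊆ Set.range o := by
    intro z hz
    by_contra hzo
    obtain ⟨z₀, hz₀⟩ := bU.surjective y₀
    have hne1 : (st ⁻¹' {n} ∩ Set.range o).Nonempty :=
      ⟨o z₀, show st (o z₀) = n by rw [← Scheme.Hom.comp_apply, ← hψ, Scheme.Hom.comp_apply, hz₀], z₀, rfl⟩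
    have hne2 : (st ⁻¹' {n} ∩ (Set.range (lE ≫ o))ᶜ).Nonempty :=
      ⟨z, hz, fun ⟨e, he⟩ => hzo ⟨lE e, he⟩⟩
    obtain ⟨w, hw, ⟨w₀, rfl⟩, hw2⟩ := hconn _ _ o.isOpenEmbedding.isOpen_range hEcl.isOpen_compl
      (fun t ht => (em (t ∈ Set.range (lE ≫ o))).imp (fun ⟨e, he⟩ => ⟨lE e, he⟩) id) hne1 hne2
    exact hw2 (hmem w₀ hw)
  -- shrink
  let Z : Set ↥(Spec Γ(Γb, ⊤)) := st '' (Set.range o)ᶜ
  have hZ : IsClosed Z := st.isClosedMap _ o.isOpenEmbedding.isOpen_range.isClosed_compl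
  obtain ⟨_, ⟨g, rfl⟩, hng, hgle⟩ := PrimeSpectrum.isTopologicalBasis_basic_opens.exists_subset_of_mem_open
    (show n ∈ Zᶜ by rintro ⟨z, hz, hzn⟩; exact hz (hsub hzn)) hZ.isOpen_compl
  let D : (Spec Γ(Γb, ⊤)).Opens := PrimeSpectrum.basicOpen g
  have hDo : st ⁻¹ᵁ D ≤ o.opensRange := fun z hz => by
    by_contra hzo
    exact hgle hz ⟨z, hzo, rfl⟩
  haveI : IsIso (o.app (st ⁻¹ᵁ D)) := o.isIso_app _ hDo
  haveI : IsIso (ψ ∣_ D) := by
    rw [isIso_morphismRestrict_iff_isIso_app ψ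
      (show IsAffineOpen D from (IsAffineOpen.Spec_basicOpen g))]
    have h1 : ψ.app D ≫ bU.app (ψ ⁻¹ᵁ D) =
        (o ≫ st).app D ≫ (b ⁻¹ᵁ U : Scheme.{u}).presheaf.map (eqToHom (by rw [← Scheme.Hom.comp_preimage, hψ])).op := by
      rw [← Scheme.Hom.comp_app, Scheme.Hom.congr_app hψ D]
    haveI := hstO D
    haveI := ContractUP.isIso_restrict_app b hO U (ψ ⁻¹ᵁ D)
    haveI : IsIso ((o ≫ st).app D) := by rw [Scheme.Hom.comp_app]; infer_instance
    haveI : IsIso (ψ.app D ≫ bU.app (ψ ⁻¹ᵁ D)) := h1 ▸ inferInstance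
    exact IsIso.of_isIso_comp_right (ψ.app D) (bU.app (ψ ⁻¹ᵁ D))
  -- conclude
  let ρ' : Spec Γ(Γb, ⊤) ⟶ Spec R := χ ≫ π
  haveI : LocallyOfFiniteType χ := by
    haveI : LocallyOfFiniteType (Spec.map c.appTop) := HasRingHomProperty.Spec_iff.2 hfin.finiteType
    exact inferInstanceAs (LocallyOfFiniteType (_ ≫ _))
  have hρ : U.ι ≫ p' = ψ ≫ ρ' := by
    refine ext_of_isAffine ?_
    rw [← cancel_mono bU.appTop, ← Scheme.Hom.comp_appTop, ← Scheme.Hom.comp_appTop, ← Category.assoc bU ψ, hψ,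
      Category.assoc]
    simp only [ρ', ← Category.assoc st χ π, hstχ]
    rw [← Category.assoc o c π, hoc]
    simp only [q, Category.assoc, hhπ]
  refine ⟨U.ι ''ᵁ (ψ ⁻¹ᵁ D), ⟨y₀, hng, rfl⟩, ?_⟩
  have e : ((U.ι.isoImage (ψ ⁻¹ᵁ D)).hom ≫ (U.ι ''ᵁ (ψ ⁻¹ᵁ D)).ι) ≫ p' =
      ((ψ ∣_ D) ≫ D.ι) ≫ ρ' := by
    rw [Scheme.Hom.isoImage_hom_ι, morphismRestrict_ι, Category.assoc, Category.assoc, hρ]
  haveI : LocallyOfFiniteType ((U.ι.isoImage (ψ ⁻¹ᵁ D)).hom ≫ (U.ι ''ᵁ (ψ ⁻¹ᵁ D)).ι ≫ p') := by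
    rw [← Category.assoc, e]; infer_instance
  exact (MorphismProperty.cancel_left_of_respectsIso @LocallyOfFiniteType (U.ι.isoImage (ψ ⁻¹ᵁ D)).hom _).1 this

/-- The target of a contraction of a proper `R`-scheme is proper over `R`. -/
theorem isProper_of_contraction [IsNoetherianRing R] [IsProper p] [IsProper b] [Surjective b]
    [IsNoetherian X'] (h : b ≫ p' = p) (hO : ∀ V : X'.Opens, IsIso (b.app V)) {y : X'}
    (hy : IsClosed ({y} : Set X')) {W : X'.Opens} (hW : (W : Set X') = {y}ᶜ) [IsIso (b ∣_ W)] : IsProper p' := by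
  haveI := isSeparated_of_contraction p b p' h
  haveI : UniversallyClosed (b ≫ p') := h ▸ inferInstance
  haveI : UniversallyClosed p' := UniversallyClosed.of_comp_surjective b p'
  obtain ⟨O, hyO, hO'⟩ := exists_locallyOfFiniteType_nhd p b p' h hO hy
  haveI : LocallyOfFiniteType p' := by
    refine IsZariskiLocalAtSource.of_iSup_eq_top (P := @LocallyOfFiniteType) (U := fun i : Bool => if i then O else W) ?_ ?_
    · refine top_le_iff.1 fun z _ => Opens.mem_iSup.2 ?_
      by_cases hz : z = y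
      · exact ⟨true, by rw [if_pos rfl, hz]; exact hyO⟩
      · exact ⟨false, by rw [if_neg Bool.false_ne_true]; exact hW.ge hz⟩
    · intro i
      cases i
      · show LocallyOfFiniteType (W.ι ≫ p')
        rw [← MorphismProperty.cancel_left_of_respectsIso @LocallyOfFiniteType (b ∣_ W), morphismRestrict_ι_assoc, h]
        infer_instance
      · exact hO'
  exact {}

end Groth.Agent.SurfModel
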