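import Groth.Agent.SurfModel.Factor
import Groth.Agent.SurfModel.ContrProper
import Groth.Agent.ContractUP.Main
import Groth.Agent.MdlInter.Combo
import Groth.Agent.S1666
import Groth.Agent.H23.RedSub
import Groth.Agent.KPE7.Basic

/-!
# Contracting an exceptional component of a regular proper model
-/

noncomputable section

set_option autoImplicit false
set_option linter.style.haveILetI false
set_option linter.unusedSectionVars false
set_option backward.isDefEq.respectTransparency false
set_option backward.isDefEq.respectTransparency.types false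
set_option maxHeartbeats 1000000

universe u

open CategoryTheory CategoryTheory.Limits AlgebraicGeometry TopologicalSpace
open IsLocalRing (maximalIdeal)
open scoped Groth.Agent.H23.PicMul

namespace Groth.Agent.SurfModel

open Groth.Agent

variable {R : Type u} [CommRing R] [IsDomain R] [IsDiscreteValuationRing R]
  {C X X' : Scheme.{u}} {f : C ⟶ Spec (CommRingCat.of (FractionRing R))}
  {p : X ⟶ Spec (CommRingCat.of R)} {p' : X' ⟶ Spec (CommRingCat.of R)}

theorem curve_point_special (G : ArSurf.VertComp R (Over.mk p)) (t : G.curve.left) :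
    p (MdlInter.iotaX G t) = IsLocalRing.closedPoint R := by
  have h := congrArg (fun q : G.curve.left ⟶ Spec (CommRingCat.of R) => q t) G.w
  refine h.trans ?_
  show (Spec.map (CommRingCat.ofHom (IsLocalRing.residue R))) (G.curve.hom t) = _
  rw [show G.curve.hom t = IsLocalRing.closedPoint (IsLocalRing.ResidueField R) from
    Subsingleton.elim (α := PrimeSpectrum (IsLocalRing.ResidueField R)) _ _]
  exact IsLocalRing.comap_closedPoint (IsLocalRing.residue R)

/-- The contraction of an exceptional component gives a regular proper model. -/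
theorem contraction_model (hC : Curve.IsSmoothProperCurve (FractionRing R) C f)
    (hX : Models.IsRegularProperModel R X p C f) {g : C ⟶ X}
    (hg : IsPullback g f p (Spec.map (CommRingCat.ofHom (algebraMap R (FractionRing R)))))
    (G : ArSurf.VertComp R (Over.mk p)) (hexc : Models.IsExcCurve G.ι)
    (b : X ⟶ X') (hb : Models.IsContractionOf G.ι b) (hcomm : b ≫ p' = p) :
    Models.IsRegularProperModel R X' p' C f ∧
      IsPullback (g ≫ b) f p' (Spec.map (CommRingCat.ofHom (algebraMap R (FractionRing R)))) ∧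
      ∃ (y : X') (W : X'.Opens), IsClosed ({y} : Set X') ∧ y ∈ Models.specialFibreSet R (Over.mk p') ∧
        (W : Set X') = {y}ᶜ ∧ IsIso (b ∣_ W) ∧ b ⁻¹' {y} = Set.range (MdlInter.iotaX G) := by
  haveI := hC.2.2.1
  haveI : IsClosedImmersion (MdlInter.iotaX G) := G.isClosedImmersion
  haveI := G.isIntegral
  haveI := hX.2.1
  obtain ⟨hpb, hsurj, hiso, hinj⟩ := ContractUP.contraction_props (MdlInter.iotaX G) b hexc hb
  obtain ⟨hN, -, y, hy, hr, hreg, hd, hbl⟩ := hb
  haveI := hN
  haveI := hpb
  haveI := hsurj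
  haveI := hX.1.1
  haveI : IsIntegral X := GRModel.isIntegral_model hX.2.2 hg
  let W : X'.Opens := (Scheme.IdealSheafData.vanishingIdeal (⟨{y}, hy⟩ : Closeds X')).support.compl
  have hW : (W : Set X') = {y}ᶜ := by
    show ((Scheme.IdealSheafData.vanishingIdeal (⟨{y}, hy⟩ : Closeds X')).support : Set X')ᶜ = {y}ᶜ
    simp [hy.closure_eq]
  haveI hWiso : IsIso (b ∣_ W) := S1682.result _ b hbl
  have hι : ∀ t, b (MdlInter.iotaX G t) = y := fun t => hr.le ⟨t, rfl⟩
  have hfib : b ⁻¹' {y} = Set.range (MdlInter.iotaX G) := by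
    refine Set.Subset.antisymm (fun z hz => ?_) (by rintro _ ⟨t, rfl⟩; exact hι t)
    let t := genericPoint G.curve.left
    rcases hinj z (MdlInter.iotaX G t) ((show b z = y from hz).trans (hι t).symm) with h | h
    · exact ⟨t, h.symm⟩
    · exact h.1
  have hys : y ∈ Models.specialFibreSet R (Over.mk p') := by
    refine MdlRegPt.mem_F_iff.2 ?_
    let t := genericPoint G.curve.left
    rw [← hι t, ← Scheme.Hom.comp_apply, hcomm]
    exact curve_point_special G t
  haveI : IsNoetherianRing (CommRingCat.of R) := inferInstanceAs (IsNoetherianRing R)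
  haveI : IsProper p' := isProper_of_contraction p b p' hcomm hiso hy hW
  -- regularity
  have hreg' : Models.IsRegularScheme X' := fun z => by
    by_cases hz : z = y
    · exact hz.symm ▸ hreg
    obtain ⟨v, rfl⟩ := b.surjective z
    have hv : b v ∈ W := hW.ge hz
    haveI := hX.2.2 v
    haveI : IsIso ((b ∣_ W).stalkMap ⟨v, hv⟩) := inferInstance
    haveI : IsIso (b.stalkMap v) :=
      ((MorphismProperty.isomorphisms CommRingCat).arrow_mk_iso_iff (morphismRestrictStalkMap b W ⟨v, hv⟩)).1
        (inferInstanceAs (IsIso ((b ∣_ W).stalkMap ⟨v, hv⟩)))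
    exact IsRegularLocalRing.of_ringEquiv (asIso (b.stalkMap v)).commRingCatIsoToRingEquiv.symm
  -- the generic fibre
  let i : Spec (CommRingCat.of (FractionRing R)) ⟶ Spec (CommRingCat.of R) :=
    Spec.map (CommRingCat.ofHom (algebraMap R (FractionRing R)))
  have hgen : ∀ t, i t ≠ IsLocalRing.closedPoint R := fun t e => by
    rw [show t = IsLocalRing.closedPoint (FractionRing R) from
      Subsingleton.elim (α := PrimeSpectrum (FractionRing R)) _ _] at e
    have h1 := congrArg PrimeSpectrum.asIdeal e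
    change Ideal.comap (algebraMap R (FractionRing R)) (maximalIdeal _) = maximalIdeal R at h1
    rw [IsLocalRing.maximalIdeal_eq_bot, Ideal.comap_bot_of_injective _ (IsFractionRing.injective R _)] at h1
    exact IsDiscreteValuationRing.not_a_field R h1.symm
  have hgW : Set.range g ⊆ Set.range (b ⁻¹ᵁ W).ι := by
    rw [Scheme.Opens.range_ι]
    rintro _ ⟨t, rfl⟩
    show b (g t) ∈ (W : Set X')
    rw [hW]
    intro e
    refine hgen (f t) ?_
    rw [← Scheme.Hom.comp_apply, ← hg.w, ← hcomm, Scheme.Hom.comp_apply, Scheme.Hom.comp_apply,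
      show b (g t) = y from e]
    exact MdlRegPt.mem_F_iff.1 hys
  let gU : C ⟶ (b ⁻¹ᵁ W : Scheme.{u}) := IsOpenImmersion.lift (b ⁻¹ᵁ W).ι g hgW
  have hgU : gU ≫ (b ⁻¹ᵁ W).ι = g := IsOpenImmersion.lift_fac _ _ _
  have sq0 : IsPullback gU (𝟙 C) (b ⁻¹ᵁ W).ι g := by
    refine ⟨⟨by rw [hgU, Category.id_comp]⟩, ⟨PullbackCone.IsLimit.mk _ (fun c => c.snd) (fun c => ?_)
      (fun c => Category.comp_id _) fun c m _ h2 => by rw [← h2, Category.comp_id]⟩⟩
    rw [← cancel_mono (b ⁻¹ᵁ W).ι, Category.assoc, hgU, c.condition]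
  have sq1 : IsPullback gU f ((b ⁻¹ᵁ W).ι ≫ p) i := by
    have := sq0.paste_vert hg
    rwa [Category.id_comp] at this
  have sq2 : IsPullback (gU ≫ (b ∣_ W)) f (W.ι ≫ p') i :=
    sq1.of_iso (Iso.refl _) (asIso (b ∣_ W)) (Iso.refl _) (Iso.refl _) (by simp) (by simp) (by
      simp only [asIso_hom, Iso.refl_hom, Category.comp_id, ← Category.assoc, morphismRestrict_ι]
      rw [Category.assoc, hcomm]) (by simp)
  have hfac : (gU ≫ (b ∣_ W)) ≫ W.ι = g ≫ b := by
    rw [Category.assoc, morphismRestrict_ι, ← Category.assoc, hgU]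
  have hg' : IsPullback (g ≫ b) f p' i := by
    refine ⟨⟨by rw [Category.assoc, hcomm, hg.w]⟩, ?_⟩
    have hlift : ∀ c : PullbackCone p' i, Set.range c.fst ⊆ Set.range W.ι := fun c => by
      rw [Scheme.Opens.range_ι]
      rintro _ ⟨t, rfl⟩
      rw [hW]
      intro e
      refine hgen (c.snd t) ?_
      rw [← Scheme.Hom.comp_apply, ← c.condition, Scheme.Hom.comp_apply, show c.fst t = y from e]
      exact MdlRegPt.mem_F_iff.1 hys
    refine ⟨PullbackCone.IsLimit.mk _
      (fun c => sq2.lift (IsOpenImmersion.lift W.ι c.fst (hlift c)) c.snd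
        (by rw [← Category.assoc, IsOpenImmersion.lift_fac, c.condition]))
      (fun c => ?_) (fun c => sq2.lift_snd _ _ _) fun c m h1 h2 => sq2.hom_ext ?_ ?_⟩
    · rw [← hfac, ← Category.assoc, sq2.lift_fst, IsOpenImmersion.lift_fac]
    · rw [sq2.lift_fst, ← cancel_mono W.ι, Category.assoc, hfac, IsOpenImmersion.lift_fac]
      exact h1
    · rw [sq2.lift_snd]; exact h2
  haveI : IrreducibleSpace X' := by
    have h := (IrreducibleSpace.isIrreducible_univ X).image b b.continuous.continuousOn
    rw [Set.image_univ, b.surjective.range_eq] at h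
    exact { isPreirreducible_univ := h.2, toNonempty := ⟨b (genericPoint X)⟩ }
  haveI : ∀ z : X', _root_.IsReduced (X'.presheaf.stalk z) := fun z => by
    haveI := hreg' z
    haveI : IsDomain (X'.presheaf.stalk z) := RegLoc6.isDomain_of_isRegularLocalRing _
    infer_instance
  haveI : IsReduced X' := isReduced_of_isReduced_stalk X'
  haveI : IsIntegral X' := isIntegral_of_irreducibleSpace_of_isReduced X'
  haveI : Flat p' := by
    refine DescLib.flat_of_dominant_integral (V := R) p' ?_
    haveI := MdlMap.isOpenImmersion_iota hg'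
    have h0 : genericPoint X' ∈ Set.range (g ≫ b) := ⟨_, genericPoint_eq_of_isOpenImmersion (g ≫ b)⟩
    rw [MdlMap.range_iota hg'] at h0
    exact h0
  exact ⟨⟨⟨inferInstance, inferInstance, inferInstance, g ≫ b, hg'⟩, inferInstance, hreg'⟩, hg', y, W, hy, hys, hW,
    hWiso, hfib⟩

/-- A line bundle pulled back along a map to a point has degree zero. -/
theorem inter_pullback_of_point [IsProper p] (G : ArSurf.VertComp R (Over.mk p)) (b : X ⟶ X') {y : X'}
    (hG : ∀ t, b (MdlInter.iotaX G t) = y) {M : X'.Modules} (hM : PicF.IsInvertible M) :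
    ArSurf.inter R (Over.mk p) ((Scheme.Modules.pullback b).obj M) G = 0 := by
  haveI := G.isIntegral
  haveI : IsProper (G.curve.left ↘ Spec (CommRingCat.of (IsLocalRing.ResidueField R))) := MdlInter.isProper_curve G
  haveI := CurveCohLib.isNoetherian_of_proper (k := IsLocalRing.ResidueField R) (X := G.curve.left)
  obtain ⟨l, hl⟩ := AlgSpDec.exists_factor_residueField (MdlInter.iotaX G ≫ b) y hG
  let T := Spec (X'.residueField y)
  haveI : Subsingleton T := inferInstanceAs (Subsingleton (PrimeSpectrum (X'.residueField y)))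
  haveI : Nonempty T := inferInstanceAs (Nonempty (PrimeSpectrum (X'.residueField y)))
  obtain ⟨e⟩ := (H23.PicMul.cl_eq_iff (B := Coh.structureModule T)).1
    (H23.KLBasic.trivial_of_subsingleton (PicClLib.isInvertible_pullback (X'.fromSpecResidueField y) hM))
  obtain ⟨e'⟩ := PicClLib.nonempty_pullback_structureModule l
  show ArSurf.curveDeg _ _ _ = 0
  have hinv := PicClLib.isInvertible_pullback (MdlInter.iotaX G) (PicClLib.isInvertible_pullback b hM)
  rw [MdlInter.curveDeg_eq_deg _ G.dim_eq (AmpleVan.isCoh_invertible hinv).1]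
  refine Eq.trans (CurveRR.deg_congr (IsLocalRing.ResidueField R) ((Scheme.Modules.pullbackComp (MdlInter.iotaX G) b).app M ≪≫
      (Scheme.Modules.pullbackCongr hl.symm).app M ≪≫
      ((Scheme.Modules.pullbackComp l (X'.fromSpecResidueField y)).app M).symm ≪≫
      (Scheme.Modules.pullback l).mapIso e ≪≫ e') 1) ?_
  exact CurveDeg.deg_structureModule _

/-- The projection formula for a component mapped birationally onto its image. -/
theorem inter_pullback_of_birational [IsProper p] [IsProper p'] [IsLocallyNoetherian X']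
    (b : X ⟶ X') (hcomm : b ≫ p' = p) (G : ArSurf.VertComp R (Over.mk p)) (G' : ArSurf.VertComp R (Over.mk p'))
    (hrange : Set.range (MdlInter.iotaX G') = b '' Set.range (MdlInter.iotaX G)) (W : X'.Opens) [IsIso (b ∣_ W)]
    (hne : ∃ t, b (MdlInter.iotaX G t) ∈ W) {M : X'.Modules} (hM : PicF.IsInvertible M) :
    ArSurf.inter R (Over.mk p) ((Scheme.Modules.pullback b).obj M) G = ArSurf.inter R (Over.mk p') M G' := by
  haveI := G.isIntegral
  haveI := G'.isIntegral
  haveI : IsClosedImmersion (MdlInter.iotaX G) := G.isClosedImmersion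
  haveI : IsClosedImmersion (MdlInter.iotaX G') := G'.isClosedImmersion
  haveI : IsProper (G.curve.left ↘ Spec (CommRingCat.of (IsLocalRing.ResidueField R))) := MdlInter.isProper_curve G
  haveI : IsProper (G'.curve.left ↘ Spec (CommRingCat.of (IsLocalRing.ResidueField R))) := MdlInter.isProper_curve G'
  haveI := CurveCohLib.isNoetherian_of_proper (k := IsLocalRing.ResidueField R) (X := G.curve.left)
  haveI := CurveCohLib.isNoetherian_of_proper (k := IsLocalRing.ResidueField R) (X := G'.curve.left)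
  let ι := MdlInter.iotaX G
  let ι' := MdlInter.iotaX G'
  obtain ⟨φ, hφ⟩ := H23.RedSub.exists_lift_closed (ι ≫ b) ι' (by
    rw [hrange]
    rintro _ ⟨t, rfl⟩
    exact ⟨_, ⟨t, rfl⟩, rfl⟩)
  have hover : φ ≫ G'.curve.hom = G.curve.hom := by
    haveI : IsClosedImmersion (Spec.map (CommRingCat.ofHom (IsLocalRing.residue R))) :=
      IsClosedImmersion.spec_of_surjective _ IsLocalRing.residue_surjective
    rw [← cancel_mono (Spec.map (CommRingCat.ofHom (IsLocalRing.residue R))), Category.assoc]
    refine Eq.trans ?_ G.w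
    refine (congrArg (φ ≫ ·) G'.w.symm).trans ?_
    show φ ≫ ι' ≫ p' = ι ≫ p
    rw [← Category.assoc, hφ, Category.assoc, hcomm]
  let U : G'.curve.left.Opens := ι' ⁻¹ᵁ W
  obtain ⟨t, ht⟩ := hne
  have htU : φ t ∈ U := by
    show ι' (φ t) ∈ W
    rw [← Scheme.Hom.comp_apply, hφ]
    exact ht
  have hU : Dense (U : Set G'.curve.left) := U.isOpen.dense ⟨_, htU⟩
  have hU' : Dense ((φ ⁻¹ᵁ U : G.curve.left.Opens) : Set G.curve.left) := (φ ⁻¹ᵁ U).isOpen.dense ⟨t, htU⟩
  haveI : IsIso (φ ∣_ U) := by
    haveI : IsClosedImmersion (φ ∣_ U) := by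
      have e : (φ ∣_ U) ≫ (ι' ∣_ W) =
          (G.curve.left.isoOfEq (show φ ⁻¹ᵁ U = ι ⁻¹ᵁ (b ⁻¹ᵁ W) by
            rw [← Scheme.Hom.comp_preimage, hφ, Scheme.Hom.comp_preimage])).hom ≫ (ι ∣_ (b ⁻¹ᵁ W)) ≫ (b ∣_ W) := by
        rw [← cancel_mono W.ι]
        simp only [U, Category.assoc, morphismRestrict_ι, morphismRestrict_ι_assoc, Scheme.isoOfEq_hom_ι_assoc]
        rw [hφ]
      haveI : IsClosedImmersion (ι' ∣_ W) :=
        MorphismProperty.of_isPullback (P := @IsClosedImmersion) (isPullback_morphismRestrict ι' W).flip inferInstance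
      haveI : IsClosedImmersion (ι ∣_ (b ⁻¹ᵁ W)) :=
        MorphismProperty.of_isPullback (P := @IsClosedImmersion) (isPullback_morphismRestrict ι _).flip inferInstance
      haveI : IsClosedImmersion ((φ ∣_ U) ≫ (ι' ∣_ W)) := e.symm ▸ inferInstance
      exact IsClosedImmersion.of_comp (φ ∣_ U) (ι' ∣_ W)
    haveI : Surjective (φ ∣_ U) := ⟨fun v => by
      obtain ⟨_, ⟨s, rfl⟩, hs⟩ := hrange.le ⟨v.1, rfl⟩
      have hsφ : φ s = v.1 := ι'.isClosedEmbedding.injective (by
        rw [← Scheme.Hom.comp_apply, hφ]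
        exact hs)
      exact ⟨⟨s, show φ s ∈ U from hsφ.symm ▸ v.2⟩, Subtype.ext ((morphismRestrict_base_coe φ U _).trans hsφ)⟩⟩
    exact isIso_of_isClosedImmersion_of_surjective _
  have hMi := PicClLib.isInvertible_pullback ι' hM
  have h := S1666.result (IsLocalRing.ResidueField R) G'.curve.left G.curve.left G'.dim_eq.le G.dim_eq.le φ hover
    U hU hU' inferInstance 1 ((Scheme.Modules.pullback ι').obj M) (KPE7.rank_one_inv hMi)
  show ArSurf.curveDeg _ _ _ = ArSurf.curveDeg _ _ _
  have hinv := PicClLib.isInvertible_pullback ι (PicClLib.isInvertible_pullback b hM)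
  rw [MdlInter.curveDeg_eq_deg _ G.dim_eq (AmpleVan.isCoh_invertible hinv).1,
    MdlInter.curveDeg_eq_deg _ G'.dim_eq (AmpleVan.isCoh_invertible hMi).1]
  refine Eq.trans ?_ h
  exact CurveRR.deg_congr _ ((Scheme.Modules.pullbackComp ι b).app M ≪≫
    (Scheme.Modules.pullbackCongr hφ.symm).app M ≪≫ ((Scheme.Modules.pullbackComp φ ι').app M).symm) 1

/-- Components, multiplicities and intersection numbers after a contraction. -/
theorem contraction_inter (hC : Curve.IsSmoothProperCurve (FractionRing R) C f)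
    (hX : Models.IsRegularProperModel R X p C f) {g : C ⟶ X}
    (hg : IsPullback g f p (Spec.map (CommRingCat.ofHom (algebraMap R (FractionRing R)))))
    {n : ℕ} (Γ : Fin (n + 1) → ArSurf.VertComp R (Over.mk p)) (hΓ : Models.IsComponentList R (Over.mk p) Γ)
    (L : Fin (n + 1) → X.Modules) (hL : ∀ i, ClSub.IsInverseOf (L i) (ClSub.idealMod (MdlInter.comp Γ i)))
    (hexc : Models.IsExcCurve (Γ (Fin.last n)).ι) (b : X ⟶ X')
    (hb : Models.IsContractionOf (Γ (Fin.last n)).ι b) (hcomm : b ≫ p' = p) :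
    Models.fibreComponents R (Over.mk p') =
        Set.range (fun i : Fin n => b '' Set.range (MdlInter.iotaX (Γ i.castSucc))) ∧
      ∀ (Γ' : Fin n → ArSurf.VertComp R (Over.mk p')),
        (∀ i, Set.range (MdlInter.iotaX (Γ' i)) = b '' Set.range (MdlInter.iotaX (Γ i.castSucc))) →
        (∀ i, Models.mult R (Over.mk p') (Γ' i) = Models.mult R (Over.mk p) (Γ i.castSucc)) ∧
        ∀ (L' : Fin n → X'.Modules), (∀ j, ClSub.IsInverseOf (L' j) (ClSub.idealMod (MdlInter.comp Γ' j))) →
          ∀ i j : Fin n,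
            ArSurf.inter R (Over.mk p') (L' j) (Γ' i) *
                ArSurf.inter R (Over.mk p) (L (Fin.last n)) (Γ (Fin.last n)) =
              ArSurf.inter R (Over.mk p) (L j.castSucc) (Γ i.castSucc) *
                  ArSurf.inter R (Over.mk p) (L (Fin.last n)) (Γ (Fin.last n)) -
                ArSurf.inter R (Over.mk p) (L (Fin.last n)) (Γ i.castSucc) *
                  ArSurf.inter R (Over.mk p) (L (Fin.last n)) (Γ j.castSucc) := by
  classical
  obtain ⟨hX', hg', y, W, hy, hys, hW, hWiso, hfib⟩ := contraction_model hC hX hg (Γ (Fin.last n)) hexc b hb hcomm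
  haveI := hWiso
  haveI : IsIntegral C := hC.2.2.1
  have hdim := hC.2.2.2
  haveI := hX.2.1
  haveI := hX.1.1
  haveI := hX'.2.1
  haveI := hX'.1.1
  let M : RModel f := ⟨X, p, g, hX, hg⟩
  let N : RModel f := ⟨X', p', g ≫ b, hX', hg'⟩
  haveI : IsIntegral X := M.isIntegral
  haveI : IsIntegral X' := N.isIntegral
  have hb' : M.IsMor N b := ⟨hcomm, rfl⟩
  haveI : IsProper b := hb'.proper
  haveI : IsLocallyNoetherian X' := LocallyOfFiniteType.isLocallyNoetherian p'
  have S := MdlInter.setting_of_model hX hΓ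
  let w : Fin (n + 1) → X := fun l => MdlInter.gp Γ l
  have hrange : ∀ l, Set.range (MdlInter.iotaX (Γ l)) = closure {w l} := fun l => by
    haveI : IsClosedImmersion (MdlInter.iotaX (Γ l)) := (Γ l).isClosedImmersion
    haveI := (Γ l).isIntegral
    exact MdlInter.range_eq_closure_gen _
  have hwmax : ∀ l, MdlMap.IsMaxSpecial p (w l) := fun l => by
    refine MdlMap.isMaxSpecial_of_mem ?_
    rw [← hrange l]
    exact hΓ.2 ▸ ⟨l, rfl⟩
  have hE : ∀ z, b z = y ↔ w (Fin.last n) ⤳ z := fun z => by
    rw [specializes_iff_mem_closure, ← hrange, ← hfib]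
    rfl
  have hwy : ∀ i : Fin n, b (w i.castSucc) ≠ y := fun i e =>
    absurd (S.eq_of_specializes ((hE _).1 e)).symm (Fin.castSucc_lt_last i).ne
  have hinj : ∀ {a c : X}, b a = b c → b a ≠ y → a = c := fun {a c} h hne => by
    have ha : b a ∈ W := hW.ge hne
    have hc : b c ∈ W := h ▸ ha
    exact congrArg Subtype.val ((b ∣_ W).homeomorph.injective (a₁ := ⟨a, ha⟩) (a₂ := ⟨c, hc⟩) (Subtype.ext (by
      show ((b ∣_ W) _).1 = ((b ∣_ W) _).1
      rw [morphismRestrict_base_coe, morphismRestrict_base_coe]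
      exact h)))
  have himg : ∀ z : X, b '' closure {z} = closure {b z} := fun z => by
    rw [← b.isClosedMap.closure_image_eq_of_continuous b.continuous, Set.image_singleton]
  have hbmax : ∀ i : Fin n, MdlMap.IsMaxSpecial p' (b (w i.castSucc)) := fun i => by
    have hF : b (w i.castSucc) ∈ Models.specialFibreSet R (Over.mk p') :=
      MdlRegPt.mem_F_iff.2 ((hb'.over _).trans (MdlRegPt.mem_F_iff.1 (hwmax _).1))
    by_contra hm
    have hcl : IsClosed ({b (w i.castSucc)} : Set X') := N.isClosed_of_not_max hdim hF hm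
    refine GRModel.not_isClosed_of_isMaxSpecial hg hdim (hwmax i.castSucc) ?_
    have e : b ⁻¹' {b (w i.castSucc)} = {w i.castSucc} := Set.ext fun z =>
      ⟨fun hz => (hinj (show b (w i.castSucc) = b z from (show b z = _ from hz).symm) (hwy i)).symm,
        fun hz => congrArg b hz⟩
    exact e ▸ hcl.preimage b.continuous
  have hcomp : Models.fibreComponents R (Over.mk p') =
      Set.range (fun i : Fin n => b '' Set.range (MdlInter.iotaX (Γ i.castSucc))) := by
    ext T
    constructor
    · intro hT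
      have hTcl : IsClosed T := by
        have h1 := hT.2 ⟨hT.1.1.closure, (Models.isClosed_specialFibreSet R (Over.mk p')).closure_subset_iff.2 hT.1.2⟩
          subset_closure
        exact closure_subset_iff_isClosed.1 h1
      obtain ⟨z, hz⟩ := QuasiSober.sober hT.1.1 hTcl
      have hzm : MdlMap.IsMaxSpecial p' z := MdlMap.isMaxSpecial_of_mem (by rw [hz.def]; exact hT)
      obtain ⟨v, hv, hvr⟩ := hb'.vals_subset ⟨z, hzm, rfl⟩
      obtain ⟨l, hl⟩ := S.exists_gp hv.1
      have hvl : w l = v := hv.2 _ hl (hwmax l).1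
      subst hvl
      have hbz : b (w l) = z := hb'.eq_of_dom hvr.symm
      induction l using Fin.lastCases with
      | last =>
        refine absurd hy ?_
        rw [← (hE (w (Fin.last n))).2 specializes_rfl, hbz]
        exact GRModel.not_isClosed_of_isMaxSpecial hg' hdim hzm
      | cast i =>
        refine ⟨i, ?_⟩
        show b '' _ = T
        rw [hrange, himg, hbz, hz.def]
    · rintro ⟨i, rfl⟩
      show b '' _ ∈ _
      rw [hrange, himg]
      exact MdlMap.closure_mem_components (hbmax i)
  refine ⟨hcomp, fun Γ' hΓ' => ?_⟩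
  have hgp' : ∀ i, MdlInter.gp Γ' i = b (w i.castSucc) := fun i => by
    haveI : IsClosedImmersion (MdlInter.iotaX (Γ' i)) := (Γ' i).isClosedImmersion
    haveI := (Γ' i).isIntegral
    have h := hΓ' i
    rw [hrange, himg, MdlInter.range_eq_closure_gen (MdlInter.iotaX (Γ' i))] at h
    exact (isGenericPoint_closure (x := MdlInter.gp Γ' i)).eq (show IsGenericPoint _ _ from h.symm)
  have hlist : Models.IsComponentList R (Over.mk p') Γ' := by
    refine ⟨fun i j h => ?_, ?_⟩
    · have h' : b '' Set.range (MdlInter.iotaX (Γ i.castSucc)) = b '' Set.range (MdlInter.iotaX (Γ j.castSucc)) :=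
        (hΓ' i).symm.trans (h.trans (hΓ' j))
      rw [hrange, hrange, himg, himg] at h'
      have h1 := (isGenericPoint_closure (x := b (w i.castSucc))).eq (show IsGenericPoint _ _ from h'.symm)
      exact Fin.castSucc_injective n (S.eq_of_specializes (specializes_of_eq (hinj h1 (hwy i))))
    · rw [hcomp]
      exact congrArg Set.range (funext hΓ')
  have S' := MdlInter.setting_of_model hX' hlist
  obtain ⟨ϖ, hϖ⟩ := IsDiscreteValuationRing.exists_irreducible R
  have hm := hϖ.maximalIdeal_eq
  have hpi : ∀ z : X, b.stalkMap z (MdlInter.pi p' ϖ (b z)) = MdlInter.pi p ϖ z := fun z =>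
    MdlMap.phi_injective M.g M.g_generic (M.spec z)
      (((MdlMap.phi_map M.g b (M.spec z) _).trans (MdlMap.phi_congr hb'.2 _ _)).trans
        ((GRModel.phi_stalkHom N.hg (N.spec (b z)) ϖ).trans (GRModel.phi_stalkHom M.hg (M.spec z) ϖ).symm))
  have hstiso : ∀ i : Fin n, IsIso (b.stalkMap (w i.castSucc)) := fun i => by
    have hv : b (w i.castSucc) ∈ W := hW.ge (hwy i)
    exact ((MorphismProperty.isomorphisms CommRingCat).arrow_mk_iso_iff (morphismRestrictStalkMap b W ⟨_, hv⟩)).1
      (inferInstanceAs (IsIso ((b ∣_ W).stalkMap ⟨_, hv⟩)))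
  have hmap : ∀ i : Fin n, (maximalIdeal (X'.presheaf.stalk (b (w i.castSucc)))).map (b.stalkMap (w i.castSucc)).hom =
      maximalIdeal (X.presheaf.stalk (w i.castSucc)) := fun i => by
    haveI := hstiso i
    have hbij := ConcreteCategory.bijective_of_isIso (b.stalkMap (w i.castSucc))
    exact IsLocalRing.eq_maximalIdeal ((Ideal.map_eq_top_or_isMaximal_of_surjective _ hbij.2
      (IsLocalRing.maximalIdeal.isMaximal _)).resolve_left fun h => (IsLocalRing.maximalIdeal.isMaximal _).ne_top (by
        have := congrArg (Ideal.comap (b.stalkMap (w i.castSucc)).hom) h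
        rwa [Ideal.comap_map_of_bijective _ hbij, Ideal.comap_top] at this))
  -- stalks of the ideals
  have key : ∀ (D : X'.IdealSheafData) (i : Fin n) (d : ℕ) (U : X'.affineOpens) (hU : b (w i.castSucc) ∈ U.1)
      (V : X.affineOpens) (hV : w i.castSucc ∈ V.1),
      Groth.Agent.DepthTwist.stI D U hU = maximalIdeal _ ^ d →
      Groth.Agent.DepthTwist.stI (D.comap b) V hV = maximalIdeal _ ^ d := by
    intro D i d U hU V hV h
    have h1 := Div21Lib.st_comap b D (w i.castSucc)
    rw [Div21Lib.st_eq _ U hU, Div21Lib.st_eq _ V hV] at h1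
    refine h1.trans ?_
    rw [show CDivEq.stk D U hU = maximalIdeal _ ^ d from h, Ideal.map_pow, hmap]
  have hexp : ∀ (V : X.affineOpens) (l : Fin (n + 1)) (hV : MdlInter.gp Γ l ∈ V.1) (a c : ℕ),
      maximalIdeal (X.presheaf.stalk (MdlInter.gp Γ l)) ^ a = maximalIdeal _ ^ c → a = c := by
    intro V l hV a c h
    have h2 := S.length_gp V l hV a
    rw [h, S.length_gp V l hV c] at h2
    exact_mod_cast h2.symm
  refine ⟨fun i => ?_, ?_⟩
  · obtain ⟨U, hU⟩ := MdlInter.exists_affine (MdlInter.gp Γ' i)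
    obtain ⟨V, hV⟩ := MdlInter.exists_affine (w i.castSucc)
    have h' : Groth.Agent.DepthTwist.stI (Models.specialFibreIdeal R (Over.mk p')) U hU =
        maximalIdeal _ ^ Models.mult R (Over.mk p') (Γ' i) := by
      rw [show Models.specialFibreIdeal R (Over.mk p') = _ from S'.specialFibreIdeal_eq, S'.stI_prod_gp U i hU]
      rfl
    have h : Groth.Agent.DepthTwist.stI (Models.specialFibreIdeal R (Over.mk p)) V hV =
        maximalIdeal _ ^ Models.mult R (Over.mk p) (Γ i.castSucc) := by
      rw [show Models.specialFibreIdeal R (Over.mk p) = _ from S.specialFibreIdeal_eq, S.stI_prod_gp V _ hV]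
      rfl
    refine hexp V i.castSucc hV _ _ (Eq.trans ?_ h)
    have hsf : (Models.specialFibreIdeal R (Over.mk p')).comap b = Models.specialFibreIdeal R (Over.mk p) := by
      show ((Curv2.idealSheaf R (maximalIdeal R)).comap p').comap b = (Curv2.idealSheaf R (maximalIdeal R)).comap p
      rw [← Scheme.IdealSheafData.comap_comp, hcomm]
    rw [← hsf]
    have hk : ∀ (z : X') (hz : z = b (w i.castSucc)) (hzU : z ∈ U.1),
        Groth.Agent.DepthTwist.stI (Models.specialFibreIdeal R (Over.mk p')) U hzU =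
          maximalIdeal _ ^ Models.mult R (Over.mk p') (Γ' i) →
        Groth.Agent.DepthTwist.stI ((Models.specialFibreIdeal R (Over.mk p')).comap b) V hV =
          maximalIdeal _ ^ Models.mult R (Over.mk p') (Γ' i) := by
      rintro _ rfl hzU h2
      exact key _ i _ U hzU V hV h2
    exact (hk _ (hgp' i) hU h').symm
  intro L' hL' i j
  let J : X.IdealSheafData := (MdlInter.comp Γ' j).comap b
  obtain ⟨a, ha⟩ : ∃ a : Fin (n + 1) → ℕ, J = ∏ l, MdlInter.comp Γ l ^ a l := by
    refine S.exists_eq_prod hm hϖ.ne_zero J fun V x hx => ?_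
    obtain ⟨U, hU⟩ := MdlInter.exists_affine (b x)
    obtain ⟨r, -, hr⟩ := S'.exists_span hm hϖ.ne_zero U hU j
    refine ⟨b.stalkMap x r, 1, ?_, ?_⟩
    · have h1 := Div21Lib.st_comap b (MdlInter.comp Γ' j) x
      rw [Div21Lib.st_eq _ U hU, Div21Lib.st_eq _ V hx] at h1
      refine h1.trans ?_
      rw [show CDivEq.stk (MdlInter.comp Γ' j) U hU = Ideal.span {r} from hr, Ideal.map_span, Set.image_singleton]
    · rw [pow_one, ← hpi x]
      refine map_dvd (b.stalkMap x).hom (Ideal.mem_span_singleton.1 ?_)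
      rw [← hr]
      haveI : IsClosedImmersion (MdlInter.iotaX (Γ' j)) := (Γ' j).isClosedImmersion
      haveI := (Γ' j).isIntegral
      by_cases h : MdlInter.gp Γ' j ⤳ b x
      · exact S'.pi_mem hm U hU j (S'.isPrime_of_specializes U hU h)
      · rw [show Groth.Agent.DepthTwist.stI (MdlInter.comp Γ' j) U hU = ⊤ from
          MdlInter.stI_of_not_specializes (MdlInter.iotaX (Γ' j)) U hU h]
        trivial
  have hav : ∀ l : Fin n, a l.castSucc = if l = j then 1 else 0 := fun l => by
    obtain ⟨V, hV⟩ := MdlInter.exists_affine (w l.castSucc)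
    obtain ⟨U, hU⟩ := MdlInter.exists_affine (b (w l.castSucc))
    refine hexp V l.castSucc hV _ _ ?_
    have h1 : Groth.Agent.DepthTwist.stI J V hV = maximalIdeal _ ^ a l.castSucc := by
      rw [ha, S.stI_prod_gp V _ hV]
    rw [← h1]
    refine key _ l _ U hU V hV ?_
    have hk : ∀ (z : X') (hz : MdlInter.gp Γ' l = z) (hzU : z ∈ U.1),
        Groth.Agent.DepthTwist.stI (MdlInter.comp Γ' j) U hzU = maximalIdeal _ ^ (if l = j then 1 else 0) := by
      rintro _ rfl hzU
      rw [S'.stI_comp_gp U l j hzU]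
      by_cases h : j = l
      · rw [if_pos h, if_pos h.symm, pow_one]
      · rw [if_neg h, if_neg (Ne.symm h), pow_zero, Ideal.one_eq_top]
    exact hk _ (hgp' l) hU
  have hLi := fun l => S.isInvertible_L L hL l
  have hL'i := S'.isInvertible_L L' hL' j
  have hI' : PicF.IsInvertible (ClSub.idealMod (MdlInter.comp Γ' j)) := (S8914.result _).2 (S'.isEffCartier j)
  have hJ : PicF.IsInvertible (ClSub.idealMod J) := (S8914.result _).2 (ha ▸ S.isEffCartier_prod a)
  have hcl : PicF.cl ((Scheme.Modules.pullback b).obj (L' j)) = PicF.cl (FGA.multiTwist L a) := by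
    obtain ⟨e⟩ := CurveAlgEqLib.nonempty_pullback_idealMod b hI' hJ
    have h1 : PicF.cl ((Scheme.Modules.pullback b).obj (L' j)) * PicF.cl (ClSub.idealMod J) = 1 := by
      have h2 := congrArg (PicF.pullCl b) (S'.cl_L L' hL' j)
      rw [H23.PicMul.pullCl_mul, H23.PicMul.pullCl_one] at h2
      refine Eq.trans ?_ h2
      congr 1
      exact (H23.PicMul.cl_eq_iff.2 ⟨e⟩).symm
    have h3 : PicF.cl (FGA.multiTwist L a) * PicF.cl (ClSub.idealMod J) = 1 := by
      rw [ha, S.cl_idealMod_prod, IntSym.cl_multiTwist]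
      exact S.prod_cl_L L hL a
    calc PicF.cl ((Scheme.Modules.pullback b).obj (L' j))
        = PicF.cl ((Scheme.Modules.pullback b).obj (L' j)) * (PicF.cl (ClSub.idealMod J) * PicF.cl (FGA.multiTwist L a)) := by
          rw [mul_comm (PicF.cl (ClSub.idealMod J)), h3, mul_one]
      _ = _ := by rw [← mul_assoc, h1, one_mul]
  have hinter : ∀ l, ArSurf.inter R (Over.mk p) ((Scheme.Modules.pullback b).obj (L' j)) (Γ l) =
      ArSurf.inter R (Over.mk p) (L j.castSucc) (Γ l) +
        (a (Fin.last n) : ℤ) * ArSurf.inter R (Over.mk p) (L (Fin.last n)) (Γ l) := fun l => by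
    rw [MdlInter.inter_congr (Γ l) (PicClLib.isInvertible_pullback b hL'i)
      (MdlInter.isInvertible_multiTwist L hLi a) hcl, MdlInter.inter_multiTwist (Γ l) L hLi a, Fin.sum_univ_castSucc]
    congr 1
    rw [Finset.sum_eq_single j (fun c _ hc => by simp [hav, hc]) (fun h => absurd (Finset.mem_univ j) h)]
    simp [hav]
  have hn0 := hinter (Fin.last n)
  rw [inter_pullback_of_point (Γ (Fin.last n)) b (y := y) (fun t => hfib.ge ⟨t, rfl⟩) hL'i] at hn0
  have hi0 := hinter i.castSucc
  rw [inter_pullback_of_birational b hcomm (Γ i.castSucc) (Γ' i) (hΓ' i) W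
    ⟨genericPoint (Γ i.castSucc).curve.left, hW.ge (hwy i)⟩ hL'i] at hi0
  rw [hi0, show ArSurf.inter R (Over.mk p) (L (Fin.last n)) (Γ j.castSucc) =
    ArSurf.inter R (Over.mk p) (L j.castSucc) (Γ (Fin.last n)) from (S.inter_comm L hL (Fin.last n) j.castSucc).symm]
  linear_combination (ArSurf.inter R (Over.mk p) (L (Fin.last n)) (Γ i.castSucc)) * hn0.symm

end Groth.Agent.SurfModel
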