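import Groth.Agent.SurfModel.Projective
import Groth.Agent.SurfModel.Contract
import Groth.Agent.Castelnuovo.Polarized

/-!
# Contracting down to a minimal model
-/

set_option autoImplicit false
set_option linter.style.haveILetI false
set_option linter.unusedSectionVars false
set_option backward.isDefEq.respectTransparency false
set_option backward.isDefEq.respectTransparency.types false
set_option maxHeartbeats 1000000

universe u

open CategoryTheory CategoryTheory.Limits AlgebraicGeometry TopologicalSpace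
open scoped Groth.Agent.H23.PicMul

namespace Groth.Agent.SurfModel

open Groth.Agent

variable {R : Type u} [CommRing R] [IsDomain R] [IsDiscreteValuationRing R]
  {C : Scheme.{u}} {f : C ⟶ Spec (CommRingCat.of (FractionRing R))}

namespace RModel

theorem exists_contractions_to_minimal (hC : Curve.IsSmoothProperCurve (FractionRing R) C f) (N : RModel f) :
    ∃ (M : RModel f) (b : N.X ⟶ M.X), Models.IsMinimalModel R M.X M.p C f ∧ N.IsMor M b ∧
      Models.IsContractionSeq b := by
  haveI := hC.2.2.1
  induction hn : N.vals.ncard using Nat.strong_induction_on generalizing N with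
  | _ n ih =>
    by_cases h : ∀ G : ArSurf.VertComp R (Over.mk N.p), ¬ Models.IsExcCurve G.ι
    · exact ⟨N, 𝟙 _, ⟨N.hX, h⟩, ⟨Category.id_comp _, Category.comp_id _⟩,
        Models.IsContractionSeq.iso (Iso.refl _)⟩
    push Not at h
    obtain ⟨G, hG⟩ := h
    haveI : IsClosedImmersion (MdlInter.iotaX G) := G.isClosedImmersion
    haveI := G.isIntegral
    obtain ⟨L, hL⟩ := MdlInter.exists_isAmple_of_model hC N.hX
    obtain ⟨M, -, hM⟩ := H23.PicInv.exists_inverse ((S8914.result _).2 hG.1)
    have hM' : ClSub.IsInverseOf M (ClSub.idealMod (MdlInter.iotaX G).ker) := by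
      refine (PicGrp.cl_eq_cl_iff _ _).1 ?_
      rw [H23.PicMul.cl_tensor, mul_comm, ← H23.PicMul.cl_tensor]
      exact H23.PicMul.cl_eq_iff.2 hM
    obtain ⟨X', b, p', hb, hbp, -, -⟩ := Castelnuovo.exists_contraction_polarized (MdlInter.iotaX G) N.p L hL hG M hM'
    obtain ⟨hX', hg', y, W, hy, -, -, -, hfib⟩ := contraction_model hC N.hX N.hg G hG b hb hbp
    let Z : RModel f := ⟨X', p', N.g ≫ b, hX', hg'⟩
    have hmor : N.IsMor Z b := ⟨hbp, rfl⟩
    obtain ⟨m, Γ, hΓ⟩ := GRModel.exists_componentList N.hg hC.2.2.2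
    obtain ⟨i, e, he⟩ := MdlInter.exists_iso_component (MdlInter.setting_of_model N.hX hΓ) G
    let w : N.X := MdlInter.gen (MdlInter.iotaX G)
    have hw : MdlMap.IsMaxSpecial N.p w := by
      refine MdlMap.isMaxSpecial_of_mem ?_
      rw [← MdlInter.range_eq_closure_gen, show Set.range (MdlInter.iotaX G) = Set.range (MdlInter.iotaX (Γ i)) by
        rw [← he, Scheme.Hom.comp_base, TopCat.coe_comp, Set.range_comp, e.hom.surjective.range_eq, Set.image_univ]]
      exact hΓ.2 ▸ ⟨i, rfl⟩
    have hlt : Z.vals.ncard < n := by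
      rw [← hn]
      refine Set.ncard_lt_ncard ⟨hmor.vals_subset, fun hle => ?_⟩ N.finite_vals
      obtain ⟨z, hz, hzw⟩ := hle ⟨w, hw, rfl⟩
      have h1 : b w = z := hmor.eq_of_dom hzw
      have h2 : b w = y := hfib.ge ⟨genericPoint G.curve.left, rfl⟩
      haveI : IsIntegral Z.X := Z.isIntegral
      haveI : IsProper Z.p := hX'.2.1
      haveI : Flat Z.p := hX'.1.1
      exact GRModel.not_isClosed_of_isMaxSpecial Z.hg hC.2.2.2 hz ((h1.symm.trans h2) ▸ hy)
    obtain ⟨M', r, hM'min, hr, hseq⟩ := ih _ hlt Z rfl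
    exact ⟨M', b ≫ r, hM'min, hmor.comp hr,
      Models.IsContractionSeq.step (MdlInter.iotaX G) b r inferInstance hG hb hseq⟩

end RModel

end Groth.Agent.SurfModel
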