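import Groth.Agent.SurfModel.Factor

/-!
# Minimal models of curves of positive genus
-/

noncomputable section

set_option autoImplicit false
set_option linter.style.haveILetI false
set_option linter.unusedSectionVars false
set_option backward.isDefEq.respectTransparency false
set_option backward.isDefEq.respectTransparency.types false

universe u

open CategoryTheory CategoryTheory.Limits AlgebraicGeometry TopologicalSpace

namespace Groth.Agent.SurfModel

open Groth.Agent

variable {R : Type u} [CommRing R] [IsDomain R] [IsDiscreteValuationRing R]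
  {C X X' Y : Scheme.{u}} {f : C ⟶ Spec (CommRingCat.of (FractionRing R))}
  {p : X ⟶ Spec (CommRingCat.of R)} {p' : X' ⟶ Spec (CommRingCat.of R)} {q : Y ⟶ Spec (CommRingCat.of R)}
  {g : C ⟶ X} {g' : C ⟶ X'} {gY : C ⟶ Y}
  (hC : Curve.IsSmoothProperCurve (FractionRing R) C f) (hH0 : IsIso f.appTop)
  (hgp : 0 < Models.curveGenus (FractionRing R) C f)
  (hg : IsPullback g f p (Spec.map (CommRingCat.ofHom (algebraMap R (FractionRing R)))))
  (hg' : IsPullback g' f p' (Spec.map (CommRingCat.ofHom (algebraMap R (FractionRing R)))))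
  (hgY : IsPullback gY f q (Spec.map (CommRingCat.ofHom (algebraMap R (FractionRing R)))))

include hC hH0 hgp hg hgY in
theorem minimal_universal (hX : Models.IsMinimalModel R X p C f) (hY : Models.IsRegularProperModel R Y q C f) :
    (∃! b : Y ⟶ X, b ≫ p = q ∧ gY ≫ b = g) ∧
      ∀ b : Y ⟶ X, b ≫ p = q → gY ≫ b = g → Models.IsContractionSeq b := by
  haveI : IsIntegral C := hC.2.2.1
  let M : RModel f := ⟨X, p, g, hX.1, hg⟩
  let N : RModel f := ⟨Y, q, gY, hY, hgY⟩
  obtain ⟨b, hb⟩ := RModel.exists_mor (M := N) (N := M) hC.2.2.2 (RModel.vals_subset_of_minimal hC hH0 hgp hX N)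
  exact ⟨⟨b, hb, fun b' hb' => RModel.IsMor.unique (M := N) (N := M) hb' hb⟩,
    fun b' h1 h2 => RModel.IsMor.isContractionSeq (M := M) (N := N) hC.2.2.2 ⟨h1, h2⟩⟩

include hC hH0 hgp hg hg' in
theorem minimal_unique (hX : Models.IsMinimalModel R X p C f) (hX' : Models.IsMinimalModel R X' p' C f) :
    ∃! e : X ≅ X', e.hom ≫ p' = p ∧ g ≫ e.hom = g' := by
  haveI : IsIntegral C := hC.2.2.1
  let M : RModel f := ⟨X, p, g, hX.1, hg⟩
  let N : RModel f := ⟨X', p', g', hX'.1, hg'⟩
  obtain ⟨b, hb⟩ := RModel.exists_mor (M := M) (N := N) hC.2.2.2 (RModel.vals_subset_of_minimal hC hH0 hgp hX' M)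
  haveI := hb.isIso hC.2.2.2 (RModel.vals_subset_of_minimal hC hH0 hgp hX N)
  exact ⟨asIso b, hb, fun e he => Iso.ext (RModel.IsMor.unique (M := M) (N := N) he hb)⟩

end Groth.Agent.SurfModel
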