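import Groth.Agent.SurfModel.Main
import Groth.Agent.GRModel.RatFibre

/-!
# Minimal models of curves of genus zero which are not unique
-/

noncomputable section

set_option autoImplicit false
set_option linter.style.haveILetI false
set_option linter.unusedSectionVars false
set_option backward.isDefEq.respectTransparency false
set_option backward.isDefEq.respectTransparency.types false
set_option maxHeartbeats 1000000

universe u

open CategoryTheory CategoryTheory.Limits AlgebraicGeometry TopologicalSpace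
open IsLocalRing (maximalIdeal)

namespace Groth.Agent.SurfModel

open Groth.Agent

variable {R : Type u} [CommRing R] [IsDomain R] [IsDiscreteValuationRing R]
  {C : Scheme.{u}} [IsIntegral C] {f : C ⟶ Spec (CommRingCat.of (FractionRing R))}

namespace RModel

variable {M N : RModel f}

/-- `M` is dominated by a model with two exceptional curves which meet. -/
def HasMeeting (M : RModel f) : Prop :=
  ∃ (Z : RModel f) (ψ : Z.X ⟶ M.X) (G₀ G₁ : ArSurf.VertComp R (Over.mk Z.p)) (w₀ w₁ : Z.X),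
    Z.IsMor M ψ ∧ w₀ ≠ w₁ ∧ Set.range (MdlInter.iotaX G₀) = closure {w₀} ∧
      Set.range (MdlInter.iotaX G₁) = closure {w₁} ∧ Models.IsExcCurve G₀.ι ∧ Models.IsExcCurve G₁.ι ∧
      ¬ Disjoint (closure ({w₀} : Set Z.X)) (closure {w₁})

theorem hasMeeting_of_mem (hdim : topologicalKrullDim C = 1)
    (hM : Models.IsMinimalModel R M.X M.p C f) {φ : N.X ⟶ M.X} (hφ : N.IsMor M φ)
    {S : Set C.functionField} (hS : N.ExcAt S) (hSM : S ∈ M.vals) : M.HasMeeting := by
  induction hn : N.vals.ncard using Nat.strong_induction_on generalizing N with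
  | _ n ih =>
    by_cases h : N.vals ⊆ M.vals
    · haveI := hφ.isIso hdim h
      haveI : IsIso (φ ∣_ ⊤) := inferInstance
      exact (not_excAt hM S (hS.transfer hdim hφ hSM ⊤ fun _ _ _ _ => trivial)).elim
    obtain ⟨Z, b, S₁, ψ, hs, hψ, he⟩ := exists_last hdim hφ h
    have hlt := hs.ncard_lt
    obtain ⟨hb, hvals, hnot, G₁, w₁, x, hx, W, hw₁, hwS₁, hG₁, hexc₁, -, hfib, hW, hiso⟩ := id hs
    have hSZ : S ∈ Z.vals := hψ.vals_subset hSM
    obtain ⟨G, w, hw, hwS, hG, hexc⟩ := id hS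
    have hne : w ≠ w₁ := fun e => hnot (by rw [← hwS₁, ← e, hwS]; exact hSZ)
    by_cases hd : Disjoint (closure ({w} : Set N.X)) (closure {w₁})
    · refine ih _ (hn ▸ hlt) hψ (hS.transfer hdim hb hSZ W fun w' hw' q hq => ?_) rfl
      rw [N.ring_injective (hw'.trans hwS.symm)] at hq
      rw [Set.mem_preimage, hW, Set.mem_compl_singleton_iff]
      exact fun hbq => hd.le_bot ⟨hq, hfib.le hbq⟩
    · exact ⟨N, φ, G, G₁, w, w₁, hφ, hne, hG, hG₁, hexc, hexc₁, hd⟩

theorem hasMeeting_of_not_subset (hdim : topologicalKrullDim C = 1)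
    (hM : Models.IsMinimalModel R M.X M.p C f) {Q : RModel f} (h : ¬ M.vals ⊆ Q.vals) : M.HasMeeting := by
  obtain ⟨Y, θ, φ, hθ, hφ⟩ := exists_dominating hdim Q M
  induction hn : Y.vals.ncard using Nat.strong_induction_on generalizing Y with
  | _ n ih =>
    by_cases hsub : Y.vals ⊆ Q.vals
    · exact (h (hφ.vals_subset.trans hsub)).elim
    obtain ⟨Z, b, S, θ', hs, hθ', -⟩ := exists_last hdim hθ hsub
    by_cases hS : S ∈ M.vals
    · exact hasMeeting_of_mem hdim hM hφ hs.excAt hS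
    have hMZ : M.vals ⊆ Z.vals := fun V hV =>
      (Set.mem_insert_iff.1 (hs.2.1 ▸ hφ.vals_subset hV)).resolve_left fun e => hS (by rw [← e]; exact hV)
    obtain ⟨φ', hφ'⟩ := exists_mor hdim hMZ
    exact ih _ (hn ▸ hs.ncard_lt) Z θ' φ' hθ' hφ' rfl

theorem not_subset_of_ne (hdim : topologicalKrullDim C = 1) {Q : RModel f}
    (hQ : Models.IsMinimalModel R Q.X Q.p C f) (h : M.vals ≠ Q.vals) : ¬ M.vals ⊆ Q.vals := by
  intro hle
  obtain ⟨φ, hφ⟩ := exists_mor hdim hle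
  obtain ⟨Z, b, S, ψ, hs, -⟩ := exists_last hdim hφ fun h' => h (hle.antisymm h')
  exact not_excAt hQ S hs.excAt

variable (hC : Curve.IsSmoothProperCurve (FractionRing R) C f) (hH0 : IsIso f.appTop)

include hC hH0 in
theorem fibre_of_hasMeeting (hg : Models.curveGenus (FractionRing R) C f = 0)
    (hM : Models.IsMinimalModel R M.X M.p C f) (hmeet : M.HasMeeting) :
    ∃ e : Models.specialFibre R M.X M.p ≅ CohB1.ProjSpace 1 (IsLocalRing.ResidueField R),
      e.hom ≫ CohB1.ProjSpace.toSpec 1 (IsLocalRing.ResidueField R) =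
        pullback.snd M.p (Spec.map (CommRingCat.ofHom (algebraMap R (IsLocalRing.ResidueField R)))) := by
  classical
  have hdim := hC.2.2.2
  obtain ⟨Z, ψ, G₀, G₁, w₀, w₁, hψ, hne, hG₀, hG₁, he₀, he₁, hd⟩ := hmeet
  obtain ⟨n, Γ, hΓ⟩ := GRModel.exists_componentList Z.hg hdim
  have S := MdlInter.setting_of_model Z.hX hΓ
  obtain ⟨i, hi, hie⟩ := exists_index S G₀ he₀
  obtain ⟨j, hj, hje⟩ := exists_index S G₁ he₁
  have hij : i ≠ j := fun e => hne <| by
    subst e
    exact (isGenericPoint_closure (x := w₀)).eq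
      (show IsGenericPoint w₁ _ from (hG₁.symm.trans (hj.symm.trans hi)).trans hG₀)
  obtain ⟨hn, hmult, -, ⟨x, hx, -, hres⟩, -⟩ := MdlSection.exc_meet hC hH0 Z.hX hΓ i j hij hie hje (by
    rw [show Set.range ((Γ i).ι.base : (Γ i).curve.left → Z.X) = _ from hi.trans hG₀,
      show Set.range ((Γ j).ι.base : (Γ j).curve.left → Z.X) = _ from hj.trans hG₁]
    exact hd)
  -- `Z` is not `M`
  have hnsub : ¬ Z.vals ⊆ M.vals := fun hle => by
    have hgp : MdlInter.gp Γ i = w₀ :=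
      ((isGenericPoint_closure (x := MdlInter.gp Γ i)).eq
        (show IsGenericPoint w₀ _ from (hi.trans hG₀).symm.trans (MdlInter.range_eq_closure_gen (MdlInter.iotaX (Γ i)))))
    have hmax : MdlMap.IsMaxSpecial Z.p w₀ := by
      refine ⟨hgp ▸ S.gp_mem i, fun y hy hyF => ?_⟩
      obtain ⟨l, hl⟩ := S.exists_gp hyF
      rw [← hgp] at hy ⊢
      obtain rfl := S.eq_of_specializes (hl.trans hy)
      exact (hy.antisymm hl).eq
    haveI := hψ.isIso hdim hle
    haveI : IsIso (ψ ∣_ ⊤) := inferInstance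
    exact not_excAt hM _ (ExcAt.transfer hdim hψ ⟨G₀, w₀, hmax, rfl, hG₀, he₀⟩ (hle ⟨w₀, hmax, rfl⟩) ⊤
      fun _ _ _ _ => trivial)
  obtain ⟨_, ⟨y, hy, rfl⟩, hyn⟩ := Set.not_subset.1 hnsub
  have hxF : ψ y ∈ Models.specialFibreSet R (Over.mk M.p) :=
    MdlRegPt.mem_F_iff.2 ((hψ.over y).trans (MdlRegPt.mem_F_iff.1 hy.1))
  have hxm : ¬ MdlMap.IsMaxSpecial M.p (ψ y) := fun hm =>
    hyn ⟨_, hm, MdlMap.eq_of_valSet (M.valSet_of_max hm) (hψ.dom y)⟩
  have hxcl := M.isClosed_of_not_max hdim hxF hxm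
  obtain ⟨l, hl⟩ := S.exists_gp hy.1
  have hyl : MdlInter.gp Γ l = y := hy.2 _ hl (S.gp_mem l)
  have hlij : l = i ∨ l = j := by
    subst hn
    omega
  have hlx : y ⤳ x := by
    rw [← hyl]
    refine (MdlInter.mem_range_iff (X := Z.X) (MdlInter.iotaX (Γ l))).1 ?_
    rcases hlij with rfl | rfl
    · exact (hx.ge rfl).1
    · exact (hx.ge rfl).2
  have hψx : ψ x = ψ y := by
    have h := (hlx.map ψ.continuous).mem_closure
    rwa [hxcl.closure_eq, Set.mem_singleton_iff] at h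
  -- the component of `M`
  obtain ⟨m, Δ, hΔ⟩ := GRModel.exists_componentList M.hg hdim
  have T := MdlInter.setting_of_model M.hX hΔ
  obtain ⟨L, hL⟩ := MdlSection.exists_L T
  obtain ⟨rfl, hone⟩ := GRModel.eq_one_of_genus_zero hC hH0 hM hΔ L hL hg
  obtain ⟨hm1, -, hh1⟩ := hone 0
  have hΔ' : Models.IsComponentList R (Over.mk M.p) fun _ : Fin 1 => Δ 0 := by
    rwa [show (fun _ : Fin 1 => Δ 0) = Δ from funext fun k => by rw [Subsingleton.elim k 0]]
  have hpi : ∀ (r : R) (z : Z.X), ψ.stalkMap z (MdlInter.pi M.p r (ψ z)) = MdlInter.pi Z.p r z := fun r z =>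
    MdlMap.phi_injective Z.g Z.g_generic (Z.spec z)
      (((MdlMap.phi_map Z.g ψ (Z.spec z) _).trans (MdlMap.phi_congr hψ.2 _ _)).trans
        ((GRModel.phi_stalkHom M.hg (M.spec (ψ z)) r).trans (GRModel.phi_stalkHom Z.hg (Z.spec z) r).symm))
  have hres' : ∀ a : M.X.presheaf.stalk (ψ y), ∃ r : R, a - MdlInter.pi M.p r (ψ y) ∈ maximalIdeal _ := by
    rw [← hψx]
    intro a
    obtain ⟨r, hr⟩ := hres (Z.X.residue x (ψ.stalkMap x a))
    refine ⟨r, ?_⟩
    by_contra hu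
    rw [IsLocalRing.mem_maximalIdeal, mem_nonunits_iff, not_not] at hu
    have h1 := (hu.map (ψ.stalkMap x).hom).map (Z.X.residue x).hom
    rw [map_sub, map_sub, hpi] at h1
    refine h1.ne_zero ?_
    rw [sub_eq_zero]
    exact hr.symm
  have hsq : ∀ ϖ : R, maximalIdeal R = Ideal.span {ϖ} →
      MdlInter.pi M.p ϖ (ψ y) ∉ maximalIdeal (M.X.presheaf.stalk (ψ y)) ^ 2 := by
    intro ϖ hϖ hmem
    have hloc : (maximalIdeal (M.X.presheaf.stalk (ψ y))).map (ψ.stalkMap y).hom ≤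
        maximalIdeal (Z.X.presheaf.stalk y) :=
      Ideal.map_le_iff_le_comap.2 fun a ha => by
        rw [Ideal.mem_comap, IsLocalRing.mem_maximalIdeal, mem_nonunits_iff]
        exact fun h => (IsLocalRing.mem_maximalIdeal _).1 ha (isUnit_of_map_unit _ _ h)
    have h2 := Ideal.mem_map_of_mem (ψ.stalkMap y).hom hmem
    rw [Ideal.map_pow, hpi] at h2
    have h3 : MdlInter.pi Z.p ϖ y ∈ maximalIdeal (Z.X.presheaf.stalk y) ^ 2 := Ideal.pow_right_mono hloc 2 h2
    obtain ⟨U, hU⟩ := MdlInter.exists_affine y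
    have h4 := MdlInter.stI_specialFibreIdeal Z.p hϖ U hU
    have h5 : Groth.Agent.DepthTwist.stI (MdlInter.sfI Z.p) U hU = maximalIdeal (Z.X.presheaf.stalk y) := by
      subst hyl
      rw [show MdlInter.sfI Z.p = _ from S.specialFibreIdeal_eq, S.stI_prod_gp U l hU, hmult l, pow_one]
    have h6 : maximalIdeal (Z.X.presheaf.stalk y) ≤
        maximalIdeal (Z.X.presheaf.stalk y) * maximalIdeal (Z.X.presheaf.stalk y) := by
      conv_lhs => rw [← h5, show MdlInter.sfI Z.p = Models.specialFibreIdeal R (Over.mk Z.p) from rfl, h4]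
      rw [← pow_two]
      exact (Ideal.span_singleton_le_iff_mem _).2 h3
    have hbot : maximalIdeal (Z.X.presheaf.stalk y) = ⊥ :=
      Submodule.eq_bot_of_le_smul_of_le_jacobson_bot _ _ (IsNoetherian.noetherian _)
        (by rwa [smul_eq_mul]) (IsLocalRing.maximalIdeal_le_jacobson _)
    have h7 : MdlInter.pi Z.p ϖ y ∈ maximalIdeal (Z.X.presheaf.stalk y) :=
      (MdlInter.isUnit_pi_iff Z.p hϖ y).2 hy.1
    rw [hbot, Submodule.mem_bot] at h7
    refine MdlInter.pi_ne_zero Z.p (fun h => ?_) y h7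
    rw [h, Ideal.span_singleton_zero] at hϖ
    exact IsDiscreteValuationRing.not_a_field R hϖ
  obtain ⟨⟨e, he⟩, hsq'⟩ := GRModel.fibre_of_ratPoint hC M.hX (Δ 0) hΔ' hm1 hh1 hxF hxcl hres' hsq
  refine ⟨hsq'.isoPullback.symm ≪≫ e, ?_⟩
  rw [Iso.trans_hom, Category.assoc, he, Iso.symm_hom]
  exact hsq'.isoPullback_inv_snd

end RModel

open RModel in
/-- If the minimal model is not unique, every minimal model has closed fibre a projective line. -/
theorem fibre_line_of_not_unique {X₁ X₂ X : Scheme.{u}} {p₁ : X₁ ⟶ Spec (CommRingCat.of R)}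
    {p₂ : X₂ ⟶ Spec (CommRingCat.of R)} {p : X ⟶ Spec (CommRingCat.of R)}
    (hC : Curve.IsSmoothProperCurve (FractionRing R) C f) (hH0 : IsIso f.appTop)
    (hg : Models.curveGenus (FractionRing R) C f = 0)
    (h₁ : Models.IsMinimalModel R X₁ p₁ C f) (h₂ : Models.IsMinimalModel R X₂ p₂ C f)
    (hXm : Models.IsMinimalModel R X p C f)
    {g₁ : C ⟶ X₁} (hg₁ : IsPullback g₁ f p₁ (Spec.map (CommRingCat.ofHom (algebraMap R (FractionRing R)))))
    {g₂ : C ⟶ X₂} (hg₂ : IsPullback g₂ f p₂ (Spec.map (CommRingCat.ofHom (algebraMap R (FractionRing R)))))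
    (hne : ∀ e : X₁ ≅ X₂, e.hom ≫ p₂ = p₁ → g₁ ≫ e.hom ≠ g₂) :
    ∃ e : Models.specialFibre R X p ≅ CohB1.ProjSpace 1 (IsLocalRing.ResidueField R),
      e.hom ≫ CohB1.ProjSpace.toSpec 1 (IsLocalRing.ResidueField R) =
        pullback.snd p (Spec.map (CommRingCat.ofHom (algebraMap R (IsLocalRing.ResidueField R)))) := by
  obtain ⟨g, hgX⟩ := hXm.1.1.2.2.2
  let M : RModel f := ⟨X, p, g, hXm.1, hgX⟩
  let M₁ : RModel f := ⟨X₁, p₁, g₁, h₁.1, hg₁⟩
  let M₂ : RModel f := ⟨X₂, p₂, g₂, h₂.1, hg₂⟩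
  have h12 : M₁.vals ≠ M₂.vals := fun e => by
    obtain ⟨φ, hφ⟩ := exists_mor hC.2.2.2 (M := M₁) (N := M₂) e.ge
    haveI := hφ.isIso hC.2.2.2 e.le
    exact hne (asIso φ) hφ.1 hφ.2
  refine fibre_of_hasMeeting hC hH0 hg (M := M) hXm ?_
  by_cases h : M.vals = M₁.vals
  · exact hasMeeting_of_not_subset hC.2.2.2 hXm (not_subset_of_ne (Q := M₂) hC.2.2.2 h₂ (h ▸ h12))
  · exact hasMeeting_of_not_subset hC.2.2.2 hXm (not_subset_of_ne (Q := M₁) hC.2.2.2 h₁ h)

end Groth.Agent.SurfModel
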