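import Groth.Agent.GRModel.Surface
import Groth.Agent.GRModel.GoodRed
import Groth.Agent.MdlMap.Main

/-!
# Regular proper models of a curve and the valuations of their components
-/

noncomputable section

set_option autoImplicit false
set_option linter.style.haveILetI false
set_option linter.unusedSectionVars false
set_option backward.isDefEq.respectTransparency false
set_option backward.isDefEq.respectTransparency.types false

universe u

open CategoryTheory CategoryTheory.Limits AlgebraicGeometry TopologicalSpace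

namespace Groth.Agent.SurfModel

open Groth.Agent

variable {R : Type u} [CommRing R] [IsDomain R] [IsDiscreteValuationRing R]
  {C : Scheme.{u}} {f : C ⟶ Spec (CommRingCat.of (FractionRing R))}

/-- A regular proper model with its generic fibre inclusion. -/
structure RModel (f : C ⟶ Spec (CommRingCat.of (FractionRing R))) where
  X : Scheme.{u}
  p : X ⟶ Spec (CommRingCat.of R)
  g : C ⟶ X
  hX : Models.IsRegularProperModel R X p C f
  hg : IsPullback g f p (Spec.map (CommRingCat.ofHom (algebraMap R (FractionRing R))))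

namespace RModel

variable (M N P : RModel f)

instance : IsProper M.p := M.hX.2.1

instance : Flat M.p := M.hX.1.1

instance : IsLocallyNoetherian M.X := LocallyOfFiniteType.isLocallyNoetherian M.p

instance : CompactSpace M.X := QuasiCompact.compactSpace_of_compactSpace M.p

instance : AlgebraicGeometry.IsNoetherian M.X := {}

instance : M.X.IsSeparated := ⟨by rw [← terminal.comp_from M.p]; infer_instance⟩

theorem reg (x : M.X) : IsRegularLocalRing (M.X.presheaf.stalk x) := M.hX.2.2 x

theorem normal : Pi1.IsNormalScheme M.X := RefX2.isNormalScheme_of_regular M.hX.2.2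

instance : IsOpenImmersion M.g := MdlMap.isOpenImmersion_iota M.hg

variable [IsIntegral C]

instance isIntegral : IsIntegral M.X := GRModel.isIntegral_model M.hX.2.2 M.hg

theorem g_generic : M.g (genericPoint C) = genericPoint M.X := genericPoint_eq_of_isOpenImmersion M.g

theorem spec (y : M.X) : M.g (genericPoint C) ⤳ y := MdlMap.spec_to M.g M.g_generic y

/-- The local ring of a point, inside the function field. -/
def ring (y : M.X) : Set C.functionField := MdlMap.img M.g (M.spec y)

theorem eq_of_dom {y y' : M.X} (h : MdlMap.Dom (M.ring y) (M.ring y')) : y = y' :=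
  MdlMap.eq_of_dom M.g M.g_generic h

theorem ring_injective : Function.Injective M.ring := fun y y' e => by
  refine M.eq_of_dom ?_
  rw [e]
  exact ⟨subset_rfl, fun t _ _ ht => ht⟩

theorem valSet_of_max {y : M.X} (h : MdlMap.IsMaxSpecial M.p y) : MdlMap.ValSet (M.ring y) :=
  @MdlMap.valSet_img _ _ _ _ M.g _ M.g_generic y (M.normal y).1 (MdlMap.valuationRing_max M.normal h)

/-- The valuation rings of the components of the closed fibre. -/
def vals : Set (Set C.functionField) := {V | ∃ y : M.X, MdlMap.IsMaxSpecial M.p y ∧ M.ring y = V}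

theorem valSet_of_mem {V : Set C.functionField} (h : V ∈ M.vals) : MdlMap.ValSet V := by
  obtain ⟨y, hy, rfl⟩ := h
  exact M.valSet_of_max hy

theorem max_of_ring_mem {y : M.X} (h : M.ring y ∈ M.vals) : MdlMap.IsMaxSpecial M.p y := by
  obtain ⟨y', hy', e⟩ := h
  exact M.ring_injective e ▸ hy'

theorem finite_vals : M.vals.Finite := by
  have h1 : {y : M.X | MdlMap.IsMaxSpecial M.p y}.Finite := by
    let F : Set M.X := Models.specialFibreSet R (Over.mk M.p)
    have hfin := (NoetherianSpace.finite_irreducibleComponents (α := F)).image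
      (fun S : Set F => closure (Subtype.val '' S))
    refine Set.Finite.of_finite_image (f := fun y : M.X => closure ({y} : Set M.X)) (hfin.subset ?_) fun a _ b _ h =>
      (isGenericPoint_closure (x := a)).eq (show IsGenericPoint b (closure ({a} : Set M.X)) from h.symm)
    rintro _ ⟨y, hy, rfl⟩
    refine ⟨closure {(⟨y, hy.1⟩ : F)}, ⟨isIrreducible_singleton.closure, fun T hT hle t ht => ?_⟩, ?_⟩
    · obtain ⟨w, hw⟩ := QuasiSober.sober (hT.image _ continuous_subtype_val.continuousOn).closure
        (isClosed_closure (s := (Subtype.val '' T : Set M.X)))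
      have hwF : w ∈ Models.specialFibreSet R (Over.mk M.p) :=
        (Models.isClosed_specialFibreSet R (Over.mk M.p)).closure_subset_iff.2
          (by rintro _ ⟨v, _, rfl⟩; exact v.2) hw.mem
      have hwy : w ⤳ y := hw.specializes (subset_closure ⟨_, hle (subset_closure rfl), rfl⟩)
      have he := hy.2 _ hwy hwF
      subst he
      rw [closure_subtype, Set.image_singleton]
      exact hw.def.ge (subset_closure ⟨t, ht, rfl⟩)
    · show closure (Subtype.val '' closure {(⟨y, hy.1⟩ : F)}) = closure {y}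
      refine le_antisymm (closure_minimal ((image_closure_subset_closure_image continuous_subtype_val).trans ?_)
        isClosed_closure) (closure_mono (Set.singleton_subset_iff.2 ⟨_, subset_closure rfl, rfl⟩))
      rw [Set.image_singleton]
  exact (h1.image M.ring).subset fun V ⟨y, hy, e⟩ => ⟨y, hy, e⟩

/-- A morphism of models. -/
def IsMor (φ : M.X ⟶ N.X) : Prop := φ ≫ N.p = M.p ∧ M.g ≫ φ = N.g

variable {M N P}

theorem IsMor.comp {φ : M.X ⟶ N.X} {ψ : N.X ⟶ P.X} (hφ : M.IsMor N φ) (hψ : N.IsMor P ψ) : M.IsMor P (φ ≫ ψ) :=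
  ⟨by rw [Category.assoc, hψ.1, hφ.1], by rw [← Category.assoc, hφ.2, hψ.2]⟩

theorem IsMor.proper {φ : M.X ⟶ N.X} (hφ : M.IsMor N φ) : IsProper φ := by
  haveI : IsProper (φ ≫ N.p) := hφ.1.symm ▸ inferInstance
  exact IsProper.of_comp φ N.p

theorem IsMor.over {φ : M.X ⟶ N.X} (hφ : M.IsMor N φ) (z : M.X) : N.p (φ z) = M.p z := by
  rw [← Scheme.Hom.comp_apply, hφ.1]

theorem IsMor.dom {φ : M.X ⟶ N.X} (hφ : M.IsMor N φ) (z : M.X) : MdlMap.Dom (N.ring (φ z)) (M.ring z) := by
  have hd := MdlMap.dom_map M.g M.g_generic φ (M.spec z)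
  rwa [MdlMap.img_congr hφ.2] at hd

theorem IsMor.eq_of_dom {φ : M.X ⟶ N.X} (hφ : M.IsMor N φ) {z : M.X} {y : N.X}
    (h : N.ring y = M.ring z) : φ z = y := by
  refine N.eq_of_dom ?_
  rw [h]
  exact hφ.dom z

theorem IsMor.unique {φ ψ : M.X ⟶ N.X} (hφ : M.IsMor N φ) (hψ : M.IsMor N ψ) : φ = ψ := by
  haveI : IsDominant M.g := ⟨dense_iff_closure_eq.2 (Set.eq_univ_of_univ_subset
    ((genericPoint_spec M.X).def.symm.subset.trans (closure_mono (Set.singleton_subset_iff.2
      ⟨genericPoint C, M.g_generic⟩))))⟩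
  exact ext_of_isDominant_of_isSeparated N.p (hφ.1.trans hψ.1.symm) M.g (hφ.2.trans hψ.2.symm)

theorem exists_mor (hdim : topologicalKrullDim C = 1) (h : N.vals ⊆ M.vals) :
    ∃ φ : M.X ⟶ N.X, M.IsMor N φ := by
  obtain ⟨φ, h1, h2⟩ := MdlMap.exists_morphism hdim.le M.normal N.normal M.hg N.hg fun ξ hξ hc => by
    obtain ⟨y, hy, e⟩ := h ⟨ξ, MdlMap.isMaxSpecial_of_mem hc, rfl⟩
    exact ⟨y, M.spec y, MdlMap.closure_mem_components hy, e⟩
  exact ⟨φ, h1, h2⟩

theorem IsMor.vals_subset {φ : M.X ⟶ N.X} (hφ : M.IsMor N φ) :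
    N.vals ⊆ M.vals := by
  rintro _ ⟨ξ, hmax, rfl⟩
  haveI := hφ.proper
  obtain ⟨x, hx⟩ : ξ ∈ Set.range φ :=
    (genericPoint_specializes ξ).mem_closed φ.isClosedMap.isClosed_range
      ⟨M.g (genericPoint C), by rw [← Scheme.Hom.comp_apply, hφ.2, N.g_generic]⟩
  have hxF : x ∈ Models.specialFibreSet R (Over.mk M.p) :=
    MdlRegPt.mem_F_iff.2 ((hφ.over x).symm.trans ((congrArg N.p hx).trans (MdlRegPt.mem_F_iff.1 hmax.1)))
  obtain ⟨Z, hZ, hxZ, hZc⟩ := MdlRegPt.exists_component hxF
  obtain ⟨y, hy⟩ : ∃ y : M.X, IsGenericPoint y (Z : Set M.X) := QuasiSober.sober hZ.1.1 hZc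
  have hm : MdlMap.IsMaxSpecial M.p y := MdlMap.isMaxSpecial_of_mem (by rwa [hy.def])
  refine ⟨y, hm, ?_⟩
  have hyξ : φ y = ξ := hmax.2 _ (hx ▸ (hy.specializes hxZ).map φ.continuous)
    (MdlRegPt.mem_F_iff.2 ((hφ.over y).trans (MdlRegPt.mem_F_iff.1 hm.1)))
  have hd := hφ.dom y
  rw [hyξ] at hd
  exact (MdlMap.eq_of_valSet (N.valSet_of_max hmax) hd).symm

theorem IsMor.isIso (hdim : topologicalKrullDim C = 1) {φ : M.X ⟶ N.X} (hφ : M.IsMor N φ)
    (h : M.vals ⊆ N.vals) : IsIso φ := by
  obtain ⟨ψ, hψ⟩ := exists_mor hdim h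
  exact ⟨ψ, (hφ.comp hψ).unique ⟨Category.id_comp _, Category.comp_id _⟩,
    (hψ.comp hφ).unique ⟨Category.id_comp _, Category.comp_id _⟩⟩

end RModel

end Groth.Agent.SurfModel
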