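import Groth.Agent.SurfModel.Basic
import Groth.Agent.PointBlowUp.ExcPoint
import Groth.Agent.PointBlowUp.Line
import Groth.Agent.DescLib.SubtrVal
import Groth.Agent.H23.FFDescent
import Groth.Agent.S8859
import Groth.Agent.S8851
import Groth.Agent.S1681
import Groth.Agent.S1682
import Groth.Agent.S1680
import Groth.Agent.S1622
import Groth.Agent.S4366

/-!
# Blowing up a closed point of a regular proper model
-/

noncomputable section

set_option autoImplicit false
set_option linter.style.haveILetI false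
set_option linter.unusedSectionVars false
set_option backward.isDefEq.respectTransparency false
set_option backward.isDefEq.respectTransparency.types false
set_option maxHeartbeats 1000000

universe u

open CategoryTheory CategoryTheory.Limits AlgebraicGeometry TopologicalSpace

namespace Groth.Agent.SurfModel

open Groth.Agent

variable {R : Type u} [CommRing R] [IsDomain R] [IsDiscreteValuationRing R]
  {C : Scheme.{u}} {f : C ⟶ Spec (CommRingCat.of (FractionRing R))}

/-- The point blown up. -/
abbrev pointIdeal {X : Scheme.{u}} {x : X} (hx : IsClosed ({x} : Set X)) : X.IdealSheafData :=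
  Scheme.IdealSheafData.vanishingIdeal ⟨{x}, hx⟩

theorem mem_support_pointIdeal {X : Scheme.{u}} {x : X} (hx : IsClosed ({x} : Set X)) {z : X} :
    z ∈ (pointIdeal hx).support ↔ z = x := by
  show z ∈ ((pointIdeal hx).support : Set X) ↔ _
  simp [hx.closure_eq]

namespace RModel

variable [IsIntegral C]

/-- The blow-up of a closed point of the closed fibre is again a regular proper model. -/
theorem exists_blow (M : RModel f) (hdim : topologicalKrullDim C = 1) {x : M.X}
    (hxF : x ∈ Models.specialFibreSet R (Over.mk M.p)) (hx : IsClosed ({x} : Set M.X)) :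
    ∃ (N : RModel f) (b : N.X ⟶ M.X) (w : N.X) (G : ArSurf.VertComp R (Over.mk N.p)),
      N.IsMor M b ∧ BlowUp.IsBlowUp b (pointIdeal hx) ∧ MdlMap.IsMaxSpecial N.p w ∧
      Set.range (MdlInter.iotaX G) = closure {w} ∧ b ⁻¹' {x} = closure {w} ∧
      Models.IsExcCurve G.ι ∧ Models.IsContractionOf G.ι b ∧
      N.vals = insert (N.ring w) M.vals ∧ N.ring w ∉ M.vals := by
  classical
  obtain ⟨X', b, hb⟩ := S8859.result M.X (pointIdeal hx)
  haveI hpb : IsProper b := BlowUpLib.isProper_of_isBlowUp _ hb fun U => by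
    haveI : IsNoetherianRing Γ(M.X, U.1) := IsLocallyNoetherian.component_noetherian U
    exact IsNoetherian.noetherian _
  haveI : IsRegularLocalRing (M.X.presheaf.stalk x) := M.reg x
  have hd2 : ringKrullDim (M.X.presheaf.stalk x) = 2 := GRModel.ringKrullDim_stalk_closed M.hg hdim hxF hx
  haveI : IsLocallyNoetherian X' := LocallyOfFiniteType.isLocallyNoetherian b
  let U : M.X.Opens := (pointIdeal hx).support.compl
  have hU : ∀ {z : M.X}, z ∈ U ↔ z ≠ x := fun {z} => by
    show z ∈ ((pointIdeal hx).support : Set M.X)ᶜ ↔ _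
    rw [Set.mem_compl_iff]
    exact not_congr (mem_support_pointIdeal hx)
  haveI hiso : IsIso (b ∣_ U) := S1682.result (pointIdeal hx) b hb
  -- points away from the centre
  have haway : ∀ z : X', b z ≠ x → IsIso (b.stalkMap z) := fun z hz => by
    haveI : IsOpenImmersion ((b ⁻¹ᵁ U).ι ≫ b) := by rw [← morphismRestrict_ι]; infer_instance
    have h := Scheme.Hom.stalkMap_comp (b ⁻¹ᵁ U).ι b ⟨z, hU.2 hz⟩
    haveI : IsIso (b.stalkMap ((b ⁻¹ᵁ U).ι ⟨z, hU.2 hz⟩) ≫ (b ⁻¹ᵁ U).ι.stalkMap ⟨z, hU.2 hz⟩) :=
      h ▸ inferInstance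
    exact IsIso.of_isIso_comp_right (b.stalkMap ((b ⁻¹ᵁ U).ι ⟨z, hU.2 hz⟩))
      ((b ⁻¹ᵁ U).ι.stalkMap ⟨z, hU.2 hz⟩)
  -- the local blow-up
  let A : CommRingCat := M.X.presheaf.stalk x
  let t : Spec A ⟶ M.X := M.X.fromSpecStalk x
  haveI : Flat t := S4366.flat_fromSpecStalk x
  have hbl := S1680.result t _ b hb
  rw [ContractUP.comap_vanishingIdeal_point x hx] at hbl
  let P := pullback t b
  let pr : P ⟶ X' := pullback.snd t b
  let b₀ : P ⟶ Spec A := pullback.fst t b
  haveI : Flat pr := MorphismProperty.pullback_snd _ _ inferInstance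
  haveI : IsPreimmersion pr := MorphismProperty.pullback_snd _ _ inferInstance
  haveI : IsRegularLocalRing A := M.reg x
  obtain ⟨-, hPreg⟩ := S1622.result A hd2 P b₀ hbl
  have hreg : Models.IsRegularScheme X' := fun z => by
    by_cases hz : b z = x
    · obtain ⟨z', rfl⟩ : z ∈ Set.range pr := by
        rw [Scheme.Pullback.range_snd]
        exact ⟨IsLocalRing.closedPoint _, Scheme.fromSpecStalk_closedPoint.trans hz.symm⟩
      haveI := H23.FFDescent.isIso_stalkMap_of_flat_of_isPreimmersion pr z'
      haveI := hPreg z'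
      exact IsRegularLocalRing.of_ringEquiv (asIso (pr.stalkMap z')).commRingCatIsoToRingEquiv.symm
    · haveI := haway z hz
      haveI := M.reg (b z)
      exact IsRegularLocalRing.of_ringEquiv (asIso (b.stalkMap z)).commRingCatIsoToRingEquiv
  -- integrality
  have hbij := S1681.result (pointIdeal hx) b hb
  have hxη : genericPoint M.X ≠ x := fun e => by
    have h1 : M.p (genericPoint M.X) = (⟨⊥, Ideal.isPrime_bot⟩ : PrimeSpectrum R) := by
      have h0 : genericPoint M.X ∈ Set.range M.g := ⟨genericPoint C, M.g_generic⟩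
      rw [MdlMap.range_iota M.hg] at h0
      exact h0
    rw [e] at h1
    exact IsDiscreteValuationRing.not_a_field R
      (congrArg PrimeSpectrum.asIdeal ((MdlRegPt.mem_F_iff.1 hxF).symm.trans h1))
  have hgenb : ∀ c : X', (∀ y, y ⤳ c → y = c) → b c = genericPoint M.X := fun c hc =>
    (((hbij.mapsTo hc).1 _ (genericPoint_specializes _))).symm
  obtain ⟨c₀, hc₀, hbc₀⟩ := hbij.surjOn (show genericPoint M.X ∈ _ from
    ⟨fun y hy => (hy.antisymm (genericPoint_specializes y)).eq, fun h => hxη ((mem_support_pointIdeal hx).1 h)⟩)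
  replace hbc₀ : b c₀ = genericPoint M.X := hbc₀
  have hall : ∀ z : X', c₀ ⤳ z := fun z => by
    obtain ⟨T, hT, hzT⟩ : ∃ T ∈ irreducibleComponents X', z ∈ T :=
      ⟨_, irreducibleComponent_mem_irreducibleComponents z, mem_irreducibleComponent⟩
    obtain ⟨c, hc⟩ := QuasiSober.sober hT.1 (isClosed_of_mem_irreducibleComponents T hT)
    have hcmax : ∀ y, y ⤳ c → y = c := fun y hy => by
      have h1 : T ⊆ closure {y} := hc.def ▸ specializes_iff_closure_subset.1 hy
      have h2 := hT.2 isIrreducible_singleton.closure h1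
      exact (hy.antisymm (hc.specializes (h2 (subset_closure rfl)))).eq
    have : c = c₀ := hbij.injOn hcmax hc₀ ((hgenb c hcmax).trans hbc₀.symm)
    exact this ▸ hc.specializes hzT
  haveI : IrreducibleSpace X' := by
    have : closure ({c₀} : Set X') = Set.univ :=
      Set.eq_univ_of_forall fun z => specializes_iff_mem_closure.1 (hall z)
    have h := (isIrreducible_singleton (x := c₀)).closure
    rw [this] at h
    exact { isPreirreducible_univ := h.2, toNonempty := ⟨c₀⟩ }
  haveI : IsReduced X' := S8851.result _ b hb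
  haveI : IsIntegral X' := isIntegral_of_irreducibleSpace_of_isReduced X'
  -- the model
  let p' : X' ⟶ Spec (CommRingCat.of R) := b ≫ M.p
  haveI : Flat p' := by
    refine DescLib.flat_of_dominant_integral (V := R) p' ?_
    rw [Scheme.Hom.comp_apply, show genericPoint X' = c₀ from ((hall _).antisymm (genericPoint_specializes c₀)).eq.symm, hbc₀]
    have h0 : genericPoint M.X ∈ Set.range M.g := ⟨genericPoint C, M.g_generic⟩
    rw [MdlMap.range_iota M.hg] at h0
    exact h0
  have hgU : Set.range M.g ⊆ Set.range U.ι := by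
    rw [Scheme.Opens.range_ι, MdlMap.range_iota M.hg]
    intro z hz
    refine hU.2 fun e => ?_
    rw [e] at hz
    exact IsDiscreteValuationRing.not_a_field R
      (congrArg PrimeSpectrum.asIdeal ((MdlRegPt.mem_F_iff.1 hxF).symm.trans hz))
  let gU : C ⟶ (U : Scheme.{u}) := IsOpenImmersion.lift U.ι M.g hgU
  let g' : C ⟶ X' := gU ≫ inv (b ∣_ U) ≫ (b ⁻¹ᵁ U).ι
  have hg'b : g' ≫ b = M.g := by
    simp only [g', Category.assoc, ← morphismRestrict_ι, IsIso.inv_hom_id_assoc]
    exact IsOpenImmersion.lift_fac _ _ _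
  have hg' : IsPullback g' f p' (Spec.map (CommRingCat.ofHom (algebraMap R (FractionRing R)))) := by
    have sq0 : IsPullback (gU ≫ inv (b ∣_ U)) (𝟙 C) (b ∣_ U) gU :=
      IsPullback.of_vert_isIso ⟨by simp⟩
    have sq1 := sq0.paste_horiz (isPullback_morphismRestrict b U).flip
    rw [show gU ≫ U.ι = M.g from IsOpenImmersion.lift_fac _ _ _, Category.assoc] at sq1
    have sq2 := sq1.paste_vert M.hg
    rwa [Category.id_comp] at sq2
  haveI : IsProper p' := inferInstanceAs (IsProper (b ≫ M.p))
  let N : RModel f :=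
    { X := X', p := p', g := g'
      hX := ⟨⟨inferInstance, inferInstance, inferInstance, g', hg'⟩, inferInstance, hreg⟩
      hg := hg' }
  have hmor : N.IsMor M b := ⟨rfl, hg'b⟩
  -- the exceptional point
  obtain ⟨e, he, -⟩ := PointBlowUp.exists_exc_iso_point b x hx hd2 hb
  let J := BlowUp.exceptional b (pointIdeal hx)
  haveI := P1Split.isIntegral (M.X.residueField x)
  haveI : IrreducibleSpace J.subscheme := by
    haveI : IsIntegral J.subscheme := H23.MaxAbelian.isIntegral_of_iso e.symm
    infer_instance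
  let w : X' := J.subschemeι (genericPoint J.subscheme)
  have hsupp : (J.support : Set X') = b ⁻¹' {x} := by
    show (((pointIdeal hx).comap b).support : Set X') = _
    rw [Scheme.IdealSheafData.support_comap]
    ext z
    exact mem_support_pointIdeal hx
  have hfib : b ⁻¹' {x} = closure {w} := by
    rw [← hsupp, ← Scheme.IdealSheafData.range_subschemeι, ← Set.image_univ, ← (genericPoint_spec J.subscheme).def,
      ← J.subschemeι.isClosedEmbedding.closure_image_eq, Set.image_singleton]
  have hbw : b w = x := hfib.ge (subset_closure rfl)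
  have hspecial : ∀ z : X', b z = x → z ∈ Models.specialFibreSet R (Over.mk N.p) := fun z hz => by
    refine MdlRegPt.mem_F_iff.2 ?_
    show (b ≫ M.p) z = _
    rw [Scheme.Hom.comp_apply, hz]
    exact MdlRegPt.mem_F_iff.1 hxF
  have hwmax : MdlMap.IsMaxSpecial N.p w := by
    obtain ⟨q, hq, hnc⟩ := PointBlowUp.exists_notClosed_exc (A := ↑(M.X.presheaf.stalk x)) b₀ hd2 hbl
    obtain ⟨q', hqq', hne⟩ : ∃ q', q ⤳ q' ∧ q ≠ q' := by
      by_contra hcon
      push Not at hcon
      refine hnc ?_
      rw [← closure_eq_iff_isClosed]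
      exact Set.Subset.antisymm (fun z hz => (hcon z (specializes_iff_mem_closure.2 hz)).symm) subset_closure
    have hbq : ∀ z : P, q ⤳ z → b (pr z) = x := fun z hz => by
      have h1 : b₀ q ∈ ((Curv2.idealSheaf A (IsLocalRing.maximalIdeal A)).support : Set (Spec A)) := by
        rw [BlowUp.exceptional, Scheme.IdealSheafData.support_comap] at hq
        exact hq
      rw [← ContractUP.comap_vanishingIdeal_point x hx, Scheme.IdealSheafData.support_comap] at h1
      have h2 : t (b₀ q) = x := (mem_support_pointIdeal hx).1 h1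
      have h3 : t (b₀ z) = x := by
        have h4 := ((hz.map b₀.continuous).map t.continuous).mem_closure
        rwa [h2, hx.closure_eq, Set.mem_singleton_iff] at h4
      rw [← Scheme.Hom.comp_apply, show pr ≫ b = b₀ ≫ t from pullback.condition.symm, Scheme.Hom.comp_apply, h3]
    have hwq : ∀ z : P, q ⤳ z → w ⤳ pr z := fun z hz =>
      specializes_iff_mem_closure.2 (hfib.le (hbq z hz))
    refine MdlMap.isMaxSpecial_of_ne hg' hdim.le (hspecial w hbw) (hspecial _ (hbq q' hqq'))
      (hwq q' hqq') fun e => hne ?_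
    exact pr.isEmbedding.injective (((hqq'.map pr.continuous).antisymm (e ▸ hwq q specializes_rfl)).eq)
  obtain ⟨G, hG⟩ := GRModel.exists_vertComp_of_max hg' hdim hwmax
  haveI := G.isClosedImmersion
  haveI := G.isIntegral
  have hGfib : Set.range (MdlInter.iotaX G) = b ⁻¹' {x} := hG.trans hfib.symm
  obtain ⟨hker, e', he', hw'⟩ := PointBlowUp.exc_of_range_eq b x hx hd2 hb (MdlInter.iotaX G) hGfib
  have hexc : Models.IsExcCurve G.ι := ⟨by rw [show G.ι.ker = _ from hker]; exact hb.1, _, inferInstance, e', hw'⟩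
  have hcontr : Models.IsContractionOf G.ι b := by
    refine ⟨inferInstance, hpb, x, hx, ?_, M.reg x, hd2, hb⟩
    refine Set.eq_singleton_iff_unique_mem.2 ⟨?_, ?_⟩
    · obtain ⟨z, hz⟩ : w ∈ Set.range (MdlInter.iotaX G) := hG.ge (subset_closure rfl)
      exact ⟨z, (congrArg b hz).trans hbw⟩
    · rintro _ ⟨z, rfl⟩
      exact hGfib.le ⟨z, rfl⟩
  refine ⟨N, b, w, G, hmor, hb, hwmax, hG, hfib, hexc, hcontr, ?_, ?_⟩
  · refine Set.Subset.antisymm ?_ (Set.insert_subset ⟨w, hwmax, rfl⟩ hmor.vals_subset)
    rintro _ ⟨z, hz, rfl⟩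
    by_cases hbz : b z = x
    · left
      rw [hz.2 w (specializes_iff_mem_closure.2 (hfib.le hbz)) hwmax.1]
    · right
      refine ⟨b z, ⟨MdlRegPt.mem_F_iff.2 ((hmor.over z).trans (MdlRegPt.mem_F_iff.1 hz.1)), fun y hy hyF => ?_⟩, ?_⟩
      · have hyx : y ≠ x := fun e => hbz (by
          have := hy.mem_closure
          rwa [e, hx.closure_eq, Set.mem_singleton_iff] at this)
        obtain ⟨y', hy'⟩ : ∃ y' : (b ⁻¹ᵁ U : Scheme.{u}), (b ∣_ U) y' = (⟨y, hU.2 hyx⟩ : U) :=
          ⟨inv (b ∣_ U) ⟨y, hU.2 hyx⟩, by rw [← Scheme.Hom.comp_apply, IsIso.inv_hom_id]; rfl⟩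
        have hval : b y'.1 = y := by
          have := congrArg Subtype.val hy'
          rwa [morphismRestrict_base_coe] at this
        have hspz : y' ⤳ (⟨z, hU.2 hbz⟩ : (b ⁻¹ᵁ U : Scheme.{u})) := by
          refine (b ∣_ U).homeomorph.isInducing.specializes_iff.1 ?_
          refine (subtype_specializes_iff _ _).2 ?_
          show ((b ∣_ U) y').1 ⤳ ((b ∣_ U) ⟨z, hU.2 hbz⟩).1
          rw [morphismRestrict_base_coe, morphismRestrict_base_coe, hval]
          exact hy
        have := hz.2 y'.1 (hspz.map continuous_subtype_val)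
          (MdlRegPt.mem_F_iff.2 ((hmor.over y'.1).symm.trans ((congrArg M.p hval).trans (MdlRegPt.mem_F_iff.1 hyF))))
        rw [← this, hval]
      · refine Set.Subset.antisymm (hmor.dom z).1 ?_
        rintro _ ⟨s, rfl⟩
        haveI := haway z hbz
        obtain ⟨s', rfl⟩ := (ConcreteCategory.bijective_of_isIso (b.stalkMap z)).2 s
        exact ⟨s', ((MdlMap.phi_map N.g b (N.spec z) s').trans (MdlMap.phi_congr hmor.2 _ s')).symm⟩
  · rintro ⟨y, hy, e⟩
    have hyb := hmor.eq_of_dom e
    rw [hbw] at hyb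
    exact GRModel.not_isClosed_of_isMaxSpecial M.hg hdim hy (hyb ▸ hx)

end RModel

end Groth.Agent.SurfModel
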