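import Groth.Agent.SurfModel.Blow
import Groth.Agent.MdlInter.Exc
import Groth.Agent.BlowUpLib.Glue

/-!
# Exceptional curves and contractions along isomorphisms near the curve
-/

noncomputable section

set_option autoImplicit false
set_option linter.style.haveILetI false
set_option linter.unusedSectionVars false
set_option backward.isDefEq.respectTransparency false
set_option backward.isDefEq.respectTransparency.types false

universe u

open CategoryTheory CategoryTheory.Limits AlgebraicGeometry TopologicalSpace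

namespace Groth.Agent.SurfModel

open Groth.Agent

variable {R : Type u} [CommRing R] [IsDomain R] [IsDiscreteValuationRing R]
  {C : Scheme.{u}} {f : C ⟶ Spec (CommRingCat.of (FractionRing R))}

namespace RModel

variable [IsIntegral C]

/-- `S` is the valuation ring of an exceptional component. -/
def ExcAt (M : RModel f) (S : Set C.functionField) : Prop :=
  ∃ (G : ArSurf.VertComp R (Over.mk M.p)) (w : M.X), MdlMap.IsMaxSpecial M.p w ∧ M.ring w = S ∧
    Set.range (MdlInter.iotaX G) = closure {w} ∧ Models.IsExcCurve G.ι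

theorem not_excAt {M : RModel f} (h : Models.IsMinimalModel R M.X M.p C f) (S : Set C.functionField) :
    ¬ M.ExcAt S := fun ⟨G, _, _, _, _, hexc⟩ => h.2 G hexc

variable {N Z : RModel f}

/-- An exceptional curve away from the centre of a morphism stays exceptional. -/
theorem ExcAt.transfer (hdim : topologicalKrullDim C = 1) {b : N.X ⟶ Z.X} (hb : N.IsMor Z b)
    {S : Set C.functionField} (hS : N.ExcAt S) (hSZ : S ∈ Z.vals) (W : Z.X.Opens) [IsIso (b ∣_ W)]
    (hW : ∀ w : N.X, N.ring w = S → closure ({w} : Set N.X) ⊆ b ⁻¹' (W : Set Z.X)) : Z.ExcAt S := by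
  classical
  obtain ⟨G, w, hw, hwS, hG, hexc⟩ := hS
  obtain ⟨v, hv, hvS⟩ := hSZ
  haveI := hb.proper
  haveI : IsClosedImmersion (MdlInter.iotaX G) := G.isClosedImmersion
  haveI := G.isIntegral
  let ι : G.curve.left ⟶ N.X := MdlInter.iotaX G
  have hιW : Set.range ι ⊆ b ⁻¹' (W : Set Z.X) := hG ▸ hW w hwS
  let i₁ : G.curve.left ⟶ (b ⁻¹ᵁ W : Scheme.{u}) := IsOpenImmersion.lift (b ⁻¹ᵁ W).ι ι (by
    rw [Scheme.Opens.range_ι]; exact hιW)
  have hi₁ : i₁ ≫ (b ⁻¹ᵁ W).ι = ι := IsOpenImmersion.lift_fac _ _ _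
  haveI : IsPreimmersion (i₁ ≫ (b ⁻¹ᵁ W).ι) := hi₁.symm ▸ inferInstance
  haveI : IsPreimmersion i₁ := IsPreimmersion.of_comp i₁ (b ⁻¹ᵁ W).ι
  have hfac : ι ≫ b = i₁ ≫ (b ∣_ W) ≫ W.ι := by rw [morphismRestrict_ι, ← Category.assoc, hi₁]
  haveI : IsPreimmersion (ι ≫ b) := hfac.symm ▸ inferInstance
  haveI : IsClosedImmersion (ι ≫ b) := by
    refine IsClosedImmersion.of_isPreimmersion _ ?_
    rw [show Set.range (ι ≫ b) = b '' Set.range ι from by rw [← Set.range_comp]; rfl]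
    exact b.isClosedMap _ ι.isClosedEmbedding.isClosed_range
  let G' : ArSurf.VertComp R (Over.mk Z.p) :=
    { curve := G.curve
      ι := ι ≫ b
      isClosedImmersion := inferInstance
      isIntegral := inferInstance
      dim_eq := G.dim_eq
      w := (Category.assoc ι b Z.p).trans ((congrArg (ι ≫ ·) hb.1).trans G.w) }
  have hG' : Set.range (MdlInter.iotaX G') = closure {v} := by
    have hbw : b w = v := hb.eq_of_dom (hvS.trans hwS.symm)
    rw [show Set.range (MdlInter.iotaX G') = b '' Set.range ι from (by rw [← Set.range_comp]; rfl), hG,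
      ← b.isClosedMap.closure_image_eq_of_continuous b.continuous, Set.image_singleton, hbw]
  -- the ideal
  obtain ⟨n, Γ, hΓ⟩ := GRModel.exists_componentList Z.hg hdim
  have S' := MdlInter.setting_of_model Z.hX hΓ
  have hI : BlowUp.IsEffCartierIdeal (ι ≫ b).ker := by
    obtain ⟨i, e, he⟩ := MdlInter.exists_iso_component S' G'
    have h := S'.isEffCartier i
    rw [show MdlInter.comp Γ i = (e.hom ≫ MdlInter.iotaX G').ker from congrArg Scheme.Hom.ker he.symm,
      Scheme.Hom.ker_comp_of_isIso] at h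
    exact h
  have hpb : IsPullback ι (𝟙 G.curve.left) b (ι ≫ b) := by
    refine ⟨⟨by simp⟩, ⟨PullbackCone.IsLimit.mk _ (fun c => c.snd) (fun c => ?_) (fun c => Category.comp_id _)
      fun c m _ h2 => by rw [← h2, Category.comp_id]⟩⟩
    have hrange : Set.range c.fst ⊆ Set.range (b ⁻¹ᵁ W).ι := by
      rw [Scheme.Opens.range_ι]
      rintro _ ⟨t, rfl⟩
      show b (c.fst t) ∈ W
      rw [← Scheme.Hom.comp_apply, c.condition, Scheme.Hom.comp_apply, Scheme.Hom.comp_apply]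
      exact hιW ⟨_, rfl⟩
    let a := IsOpenImmersion.lift (b ⁻¹ᵁ W).ι c.fst hrange
    have ha : a ≫ (b ⁻¹ᵁ W).ι = c.fst := IsOpenImmersion.lift_fac _ _ _
    have hai : a = c.snd ≫ i₁ := by
      rw [← cancel_mono (b ∣_ W), ← cancel_mono W.ι]
      simp only [Category.assoc, morphismRestrict_ι]
      rw [← Category.assoc, ha, c.condition, ← Category.assoc i₁, hi₁]
    rw [← ha, hai, Category.assoc, hi₁]
  have hcomap : (ι ≫ b).ker.comap b = ι.ker := by
    have e := Scheme.IdealSheafData.ker_fst_of_isClosedImmersion (ι ≫ b) b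
    refine e.symm.trans ?_
    conv_rhs => rw [← hpb.isoPullback_hom_fst, Scheme.Hom.ker_comp_of_isIso]
  refine ⟨G', v, hv, hvS, hG', ?_⟩
  obtain ⟨hJ, k, hk, e, ⟨t⟩⟩ := hexc
  refine ⟨hI, k, hk, e, ?_⟩
  obtain ⟨i₂⟩ := CurveAlgEqLib.nonempty_pullback_idealMod b ((S8914.result _).2 hI)
    (show PicF.IsInvertible (ClSub.idealMod ((ι ≫ b).ker.comap b)) by rw [hcomap]; exact (S8914.result _).2 hJ)
  rw [hcomap] at i₂
  exact ⟨((Scheme.Modules.pullbackCongr (Category.assoc e.hom ι b).symm).app _) ≪≫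
    ((Scheme.Modules.pullbackComp (e.hom ≫ ι) b).app _).symm ≪≫
    (Scheme.Modules.pullback (e.hom ≫ ι)).mapIso i₂ ≪≫ t⟩

/-- A contraction of `N` onto `Z`. -/
def IsStep (N Z : RModel f) (b : N.X ⟶ Z.X) (S : Set C.functionField) : Prop :=
  N.IsMor Z b ∧ N.vals = insert S Z.vals ∧ S ∉ Z.vals ∧
    ∃ (G : ArSurf.VertComp R (Over.mk N.p)) (w : N.X) (x : Z.X) (_ : IsClosed ({x} : Set Z.X))
      (W : Z.X.Opens), MdlMap.IsMaxSpecial N.p w ∧ N.ring w = S ∧ Set.range (MdlInter.iotaX G) = closure {w} ∧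
      Models.IsExcCurve G.ι ∧ Models.IsContractionOf G.ι b ∧ b ⁻¹' {x} = closure {w} ∧
      (W : Set Z.X) = {x}ᶜ ∧ IsIso (b ∣_ W)

theorem IsStep.excAt {b : N.X ⟶ Z.X} {S : Set C.functionField} (h : IsStep N Z b S) : N.ExcAt S := by
  obtain ⟨-, -, -, G, w, x, hx, W, hw, hwS, hG, hexc, -⟩ := h
  exact ⟨G, w, hw, hwS, hG, hexc⟩

theorem exists_step_blow (M : RModel f) (hdim : topologicalKrullDim C = 1) {x : M.X}
    (hxF : x ∈ Models.specialFibreSet R (Over.mk M.p)) (hx : IsClosed ({x} : Set M.X)) :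
    ∃ (N : RModel f) (b : N.X ⟶ M.X) (w : N.X),
      IsStep N M b (N.ring w) ∧ b ⁻¹' {x} = closure {w} ∧ BlowUp.IsBlowUp b (pointIdeal hx) ∧
        MdlMap.IsMaxSpecial N.p w := by
  obtain ⟨N, b, w, G, hb, hbl, hw, hG, hfib, hexc, hcon, hvals, hnot⟩ := M.exists_blow hdim hxF hx
  refine ⟨N, b, w, ⟨hb, hvals, hnot, G, w, x, hx, (pointIdeal hx).support.compl, hw, rfl, hG, hexc, hcon, hfib, ?_,
    S1682.result _ b hbl⟩, hfib, hbl, hw⟩
  show ((pointIdeal hx).support : Set M.X)ᶜ = {x}ᶜ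
  exact congrArg (·ᶜ) (Set.ext fun z => mem_support_pointIdeal hx)

/-- Precomposition of a contraction with an isomorphism of models. -/
theorem IsStep.comp_iso {M : RModel f} (hdim : topologicalKrullDim C = 1) {e : M.X ⟶ N.X} [IsIso e]
    (he : M.IsMor N e) {b : N.X ⟶ Z.X} {S : Set C.functionField} (h : IsStep N Z b S) :
    IsStep M Z (e ≫ b) S := by
  have hinv : N.IsMor M (inv e) := ⟨by rw [← he.1, IsIso.inv_hom_id_assoc],
    by rw [← he.2, Category.assoc, IsIso.hom_inv_id, Category.comp_id]⟩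
  obtain ⟨hb, hvals, hnot, G, w, x, hx, W, hw, hwS, hG, hexc, hcon, hfib, hW, hiso⟩ := h
  haveI := hiso
  have heq : M.vals = N.vals := Set.Subset.antisymm hinv.vals_subset he.vals_subset
  refine ⟨he.comp hb, heq.trans hvals, hnot, ?_⟩
  haveI : IsIso (inv e ∣_ ⊤) := inferInstance
  obtain ⟨G', w', hw', hw'S, hG', hexc'⟩ := ExcAt.transfer hdim hinv ⟨G, w, hw, hwS, hG, hexc⟩
    (show S ∈ M.vals by rw [heq, hvals]; exact Set.mem_insert _ _) ⊤ fun _ _ z _ => trivial
  have hew : e w' = w := he.eq_of_dom (hwS.trans hw'S.symm)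
  have hfib' : (e ≫ b) ⁻¹' {x} = closure {w'} := by
    rw [show ⇑(e ≫ b) ⁻¹' {x} = ⇑e ⁻¹' (⇑b ⁻¹' {x}) from rfl, hfib,
      e.homeomorph.isInducing.closure_eq_preimage_closure_image, Set.image_singleton]
    show _ = ⇑e ⁻¹' closure {e w'}
    rw [hew]
  haveI : IsIso ((e ≫ b) ∣_ W) := by rw [morphismRestrict_comp]; infer_instance
  refine ⟨G', w', x, hx, W, hw', hw'S, hG', hexc', ?_, hfib', hW, inferInstance⟩
  obtain ⟨hN, hp, y, hy, hr, hreg, hd, hbl⟩ := hcon
  haveI := hp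
  refine ⟨hN, inferInstance, y, hy, ?_, hreg, hd, BlowUpLib.isBlowUp_iso_comp e hbl⟩
  have hyx : y = x := by
    have h1 : y ∈ Set.range ((G.ι ≫ b).base : G.curve.left → Z.X) := hr ▸ rfl
    obtain ⟨t, ht⟩ := h1
    rw [← ht]
    exact hfib.ge (hG.le ⟨t, rfl⟩)
  subst hyx
  refine Set.eq_singleton_iff_unique_mem.2 ⟨?_, ?_⟩
  · obtain ⟨t, ht⟩ : w' ∈ Set.range (MdlInter.iotaX G') := hG'.ge (subset_closure rfl)
    exact ⟨t, (congrArg (⇑(e ≫ b)) ht).trans (hfib'.ge (subset_closure rfl))⟩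
  · rintro _ ⟨t, rfl⟩
    exact hfib'.ge (hG'.le ⟨t, rfl⟩)

end RModel

end Groth.Agent.SurfModel
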