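import Groth.Agent.SurfModel.Reach
import Groth.Agent.SurfModel.Transfer
import Groth.Agent.ZarConn.AppIso
import Groth.Agent.Div21Lib.Local
import Groth.Agent.MdlSection.ExcMeet

/-!
# Morphisms of regular models are composites of contractions
-/

noncomputable section

set_option autoImplicit false
set_option linter.style.haveILetI false
set_option linter.unusedSectionVars false
set_option backward.isDefEq.respectTransparency false
set_option backward.isDefEq.respectTransparency.types false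
set_option maxHeartbeats 1000000

universe u

open CategoryTheory CategoryTheory.Limits AlgebraicGeometry TopologicalSpace
open IsLocalRing (maximalIdeal)

namespace Groth.Agent.SurfModel

open Groth.Agent

/-- A closed point which is not open has a proper generalization. -/
theorem exists_specializes_ne {T : Type*} [TopologicalSpace T] [NoetherianSpace T] [QuasiSober T] {z : T}
    (hz : IsClosed ({z} : Set T)) (h : ¬ IsOpen ({z} : Set T)) : ∃ c, c ⤳ z ∧ c ≠ z := by
  by_contra hcon
  push Not at hcon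
  refine h ?_
  have hfin : {t ∈ irreducibleComponents T | z ∉ t}.Finite :=
    NoetherianSpace.finite_irreducibleComponents.subset fun t ht => ht.1
  have he : ({z} : Set T) = (⋃ t ∈ {t ∈ irreducibleComponents T | z ∉ t}, t)ᶜ := by
    ext u
    simp only [Set.mem_singleton_iff, Set.mem_compl_iff, Set.mem_iUnion]
    refine ⟨fun e ⟨t, ht, hu⟩ => ht.2 (e ▸ hu), fun hu => by_contra fun hne => hu
      ⟨irreducibleComponent u, ⟨irreducibleComponent_mem_irreducibleComponents u, fun hzc => hne ?_⟩,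
        mem_irreducibleComponent⟩⟩
    obtain ⟨c, hc⟩ := QuasiSober.sober isIrreducible_irreducibleComponent (isClosed_irreducibleComponent (x := u))
    have hcz := hcon c (hc.specializes hzc)
    have h1 : u ∈ closure ({c} : Set T) := hc.def.symm ▸ mem_irreducibleComponent
    rwa [hcz, hz.closure_eq, Set.mem_singleton_iff] at h1
  rw [he]
  exact (hfin.isClosed_biUnion fun t ht => isClosed_of_mem_irreducibleComponents t ht.1).isOpen_compl

variable {R : Type u} [CommRing R] [IsDomain R] [IsDiscreteValuationRing R]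
  {C : Scheme.{u}} [IsIntegral C] {f : C ⟶ Spec (CommRingCat.of (FractionRing R))}

namespace RModel

variable {M N : RModel f}

theorem isClosed_of_not_max (hdim : topologicalKrullDim C = 1) {x : M.X}
    (hxF : x ∈ Models.specialFibreSet R (Over.mk M.p)) (hm : ¬ MdlMap.IsMaxSpecial M.p x) :
    IsClosed ({x} : Set M.X) := by
  rw [← closure_eq_iff_isClosed]
  refine Set.Subset.antisymm (fun y hy => ?_) subset_closure
  by_contra hne
  have hy' : x ⤳ y := specializes_iff_mem_closure.2 hy
  exact hm (MdlMap.isMaxSpecial_of_ne M.hg hdim.le hxF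
    (hy'.mem_closed (Models.isClosed_specialFibreSet R (Over.mk M.p)) hxF) hy' fun e => hne e.symm)

theorem IsMor.isIso_stalkMap_generic {φ : N.X ⟶ M.X} (hφ : N.IsMor M φ) :
    φ (genericPoint N.X) = genericPoint M.X ∧ IsIso (φ.stalkMap (genericPoint N.X)) := by
  refine ⟨by rw [← N.g_generic, ← Scheme.Hom.comp_apply, hφ.2, M.g_generic], ?_⟩
  rw [← N.g_generic]
  have h := Scheme.Hom.stalkMap_comp N.g φ (genericPoint C)
  haveI : IsOpenImmersion (N.g ≫ φ) := hφ.2.symm ▸ inferInstance
  haveI : IsIso (φ.stalkMap (N.g (genericPoint C)) ≫ N.g.stalkMap (genericPoint C)) := h ▸ inferInstance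
  exact IsIso.of_isIso_comp_right (φ.stalkMap (N.g (genericPoint C))) (N.g.stalkMap (genericPoint C))

/-- A closed point which is not alone in its fibre lies on a contracted component. -/
theorem IsMor.exists_max_fibre (hdim : topologicalKrullDim C = 1) {φ : N.X ⟶ M.X} (hφ : N.IsMor M φ)
    {y z : N.X} (hne : y ≠ z) (he : φ y = φ z) (hz : IsClosed ({z} : Set N.X))
    (hzF : z ∈ Models.specialFibreSet R (Over.mk N.p)) :
    ∃ w : N.X, MdlMap.IsMaxSpecial N.p w ∧ w ⤳ z ∧ φ w = φ z := by
  haveI := hφ.proper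
  obtain ⟨hgen, hbir⟩ := hφ.isIso_stalkMap_generic
  obtain ⟨V, hV, hiso⟩ := ZarConn.exists_open_isIso_no_isolated φ fun U =>
    haveI := ZarConn.isIso_app_of_birational M.normal φ hgen hbir U
    ConcreteCategory.bijective_of_isIso (φ.app U)
  have hzV : φ z ∉ V := fun h => hne <| by
    have hinj := (φ ∣_ V).homeomorph.injective
    exact congrArg Subtype.val (@hinj ⟨y, show φ y ∈ V from he ▸ h⟩ ⟨z, h⟩ (Subtype.ext (by
      show ((φ ∣_ V) _).1 = ((φ ∣_ V) _).1
      rw [morphismRestrict_base_coe, morphismRestrict_base_coe]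
      exact he)))
  obtain ⟨z₀, hz₀⟩ : z ∈ Set.range (φ.fiberι (φ z)) := by rw [Scheme.Hom.range_fiberι]; rfl
  haveI : NoetherianSpace ↥(φ.fiber (φ z)) := (φ.fiberι (φ z)).isEmbedding.isInducing.noetherianSpace
  have hz₀c : IsClosed ({z₀} : Set ↥(φ.fiber (φ z))) := by
    have h := hz.preimage (φ.fiberι (φ z)).continuous
    have e : φ.fiberι (φ z) ⁻¹' ({z} : Set N.X) = {z₀} := Set.ext fun q =>
      ⟨fun hq => (φ.fiberι (φ z)).isEmbedding.injective ((show _ = z from hq).trans hz₀.symm),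
        fun hq => (congrArg (φ.fiberι (φ z)) (show q = z₀ from hq)).trans hz₀⟩
    rwa [e] at h
  obtain ⟨c, hc, hcne⟩ := exists_specializes_ne hz₀c (hiso _ hzV z₀)
  have hcz : φ.fiberι (φ z) c ⤳ z := (hc.map (φ.fiberι (φ z)).continuous).trans (specializes_of_eq hz₀)
  have hφc : φ (φ.fiberι (φ z) c) = φ z := (φ.range_fiberι (φ z)).le ⟨c, rfl⟩
  refine ⟨_, MdlMap.isMaxSpecial_of_ne N.hg hdim.le (MdlRegPt.mem_F_iff.2 ?_) hzF hcz
    (fun e => hcne ((φ.fiberι (φ z)).isEmbedding.injective (e.trans hz₀.symm))), hcz, hφc⟩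
  rw [← hφ.over, hφc, hφ.over]
  exact MdlRegPt.mem_F_iff.1 hzF

/-- The exceptional point of the blow-up generates the stalk of the inverse image ideal. -/
theorem st_exceptional {X' : Scheme.{u}} (hdim : topologicalKrullDim C = 1) {x : M.X}
    (hxF : x ∈ Models.specialFibreSet R (Over.mk M.p)) (hx : IsClosed ({x} : Set M.X)) {b : X' ⟶ M.X}
    (hb : BlowUp.IsBlowUp b (pointIdeal hx)) {w : X'} (hfib : b ⁻¹' {x} = closure {w}) :
    Div21Lib.st ((pointIdeal hx).comap b) w = maximalIdeal (X'.presheaf.stalk w) := by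
  haveI := M.reg x
  obtain ⟨e, -⟩ := PointBlowUp.exists_exc_iso_point b x hx
    (GRModel.ringKrullDim_stalk_closed M.hg hdim hxF hx) hb
  haveI := P1Split.isIntegral (M.X.residueField x)
  let J : X'.IdealSheafData := (pointIdeal hx).comap b
  haveI : IsIntegral J.subscheme := H23.MaxAbelian.isIntegral_of_iso e.symm
  have hsupp : Set.range J.subschemeι = closure {w} := by
    rw [Scheme.IdealSheafData.range_subschemeι, ← hfib]
    show (((pointIdeal hx).comap b).support : Set X') = _
    rw [Scheme.IdealSheafData.support_comap]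
    ext z
    exact mem_support_pointIdeal hx
  obtain rfl : MdlInter.gen J.subschemeι = w :=
    (isGenericPoint_closure (x := MdlInter.gen J.subschemeι)).eq
      (show IsGenericPoint w _ from hsupp.symm.trans (MdlInter.range_eq_closure_gen _))
  obtain ⟨U, hU⟩ := Div21Lib.exists_affine_mem (MdlInter.gen J.subschemeι)
  rw [Div21Lib.st_eq _ U hU]
  refine Eq.trans ?_ (MdlInter.stI_gen J.subschemeι U hU)
  rw [Scheme.IdealSheafData.ker_subschemeι]
  rfl

/-- The ideal of a component through a point is principal there. -/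
theorem exists_prime_gen (hdim : topologicalKrullDim C = 1) {w z : N.X} (hw : MdlMap.IsMaxSpecial N.p w)
    (h : w ⤳ z) : ∃ u : N.X.presheaf.stalk z, u ≠ 0 ∧
      (maximalIdeal (N.X.presheaf.stalk w)).comap (N.X.presheaf.stalkSpecializes h).hom = Ideal.span {u} := by
  obtain ⟨G, hG⟩ := GRModel.exists_vertComp_of_max N.hg hdim hw
  obtain ⟨n, Γ, hΓ⟩ := GRModel.exists_componentList N.hg hdim
  have S := MdlInter.setting_of_model N.hX hΓ
  haveI : IsClosedImmersion (MdlInter.iotaX G) := G.isClosedImmersion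
  haveI := G.isIntegral
  have hI : BlowUp.IsEffCartierIdeal (MdlInter.iotaX G).ker := by
    obtain ⟨i, e, he⟩ := MdlInter.exists_iso_component S G
    have h := S.isEffCartier i
    rw [show MdlInter.comp Γ i = (e.hom ≫ MdlInter.iotaX G).ker from congrArg Scheme.Hom.ker he.symm,
      Scheme.Hom.ker_comp_of_isIso] at h
    exact h
  obtain rfl : MdlInter.gen (MdlInter.iotaX G) = w :=
    (isGenericPoint_closure (x := MdlInter.gen (MdlInter.iotaX G))).eq
      (show IsGenericPoint w _ from hG.symm.trans (MdlInter.range_eq_closure_gen _))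
  obtain ⟨u, hu, he⟩ := Div21Lib.exists_gen _ hI z
  obtain ⟨U, hU⟩ := Div21Lib.exists_affine_mem z
  refine ⟨u, nonZeroDivisors.ne_zero hu, ?_⟩
  rw [← MdlInter.stI_of_specializes (MdlInter.iotaX G) U hU h, ← he, Div21Lib.st_eq _ U hU]
  rfl

/-- A morphism which contracts a component onto `x` factors through the blow-up of `x`. -/
theorem ring_mem_of_contracted (hdim : topologicalKrullDim C = 1) {φ : N.X ⟶ M.X} (hφ : N.IsMor M φ)
    {y : N.X} (hy : MdlMap.IsMaxSpecial N.p y) (hxF : φ y ∈ Models.specialFibreSet R (Over.mk M.p))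
    (hx : IsClosed ({φ y} : Set M.X)) {M₁ : RModel f} {b : M₁.X ⟶ M.X} {w : M₁.X} (hb : M₁.IsMor M b)
    (hbl : BlowUp.IsBlowUp b (pointIdeal hx)) (hw : MdlMap.IsMaxSpecial M₁.p w)
    (hfib : b ⁻¹' {φ y} = closure {w}) : M₁.ring w ∈ N.vals := by
  classical
  let φw : M₁.X.presheaf.stalk w →+* C.functionField := MdlMap.phi M₁.g (M₁.spec w)
  let V : ValuationSubring C.functionField := ValuationSubring.ofSubring φw.range (M₁.valSet_of_max hw)
  have hVw : (V : Set C.functionField) = M₁.ring w := rfl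
  have hcw : M₁.IsCentre V w := by
    refine ⟨fun t => ⟨t, rfl⟩, ⟨fun t ht => ?_⟩⟩
    obtain ⟨⟨_, s, rfl⟩, hs⟩ := isUnit_iff_exists_inv.1 ht
    refine IsUnit.of_mul_eq_one s (MdlMap.phi_injective M₁.g M₁.g_generic (M₁.spec w) ?_)
    rw [map_mul, map_one]
    exact congrArg Subtype.val hs
  obtain ⟨z, hcz⟩ := N.exists_isCentre V fun r => by
    rw [← GRModel.phi_stalkHom M₁.hg (M₁.spec w) r]
    exact ⟨_, rfl⟩
  have hφz : φ z = φ y := ((hφ.isCentre hcz).unique (hb.isCentre hcw)).trans (hfib.ge (subset_closure rfl))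
  by_cases hzm : MdlMap.IsMaxSpecial N.p z
  · exact ⟨z, hzm, hcz.ring_eq hzm⟩
  exfalso
  have hzF : z ∈ Models.specialFibreSet R (Over.mk N.p) :=
    MdlRegPt.mem_F_iff.2 (((hφ.over z).symm.trans (congrArg M.p hφz)).trans (MdlRegPt.mem_F_iff.1 hxF))
  have hzc := N.isClosed_of_not_max hdim hzF hzm
  obtain ⟨v, hv, hvz, hφv⟩ := hφ.exists_max_fibre hdim (fun e => hzm (e ▸ hy) : y ≠ z) hφz.symm hzc hzF
  obtain ⟨u, hu0, hP⟩ := exists_prime_gen hdim hv hvz
  haveI := N.reg z
  haveI : IsDomain (N.X.presheaf.stalk z) := RegLoc6.isDomain_of_isRegularLocalRing _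
  let A : CommRingCat := N.X.presheaf.stalk z
  let J : N.X.IdealSheafData := (pointIdeal hx).comap φ
  -- the inverse image ideal lies in the prime of the component
  have hJle : Div21Lib.st J z ≤ Ideal.span {u} := by
    rw [← hP, ← Ideal.map_le_iff_le_comap, ← Div21Lib.st_specializes J hvz]
    refine IsLocalRing.le_maximalIdeal fun htop => ((Div21Lib.notMem_support_iff J v).2 htop) ?_
    show v ∈ ((pointIdeal hx).comap φ).support
    rw [Scheme.IdealSheafData.support_comap]
    exact (mem_support_pointIdeal hx).2 (hφv.trans hφz)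
  obtain ⟨hVz, hlocz⟩ := id hcz
  let ψ : N.X.presheaf.stalk z →+* V := (MdlMap.phi N.g (N.spec z)).codRestrict V.toSubring hVz
  haveI : IsLocalHom ψ := hlocz
  let χw : M₁.X.presheaf.stalk w →+* V := φw.codRestrict V.toSubring fun t => ⟨t, rfl⟩
  have hχw : Function.Bijective χw :=
    ⟨fun a c h => MdlMap.phi_injective M₁.g M₁.g_generic (M₁.spec w) (congrArg Subtype.val h),
      fun ⟨_, t, rfl⟩ => ⟨t, rfl⟩⟩
  let eV : M₁.X.presheaf.stalk w ≃+* V := RingEquiv.ofBijective χw hχw
  -- some element of the ideal generates the prime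
  have hst := st_exceptional hdim hxF hx hbl hfib
  rw [Div21Lib.st_comap] at hst
  have hum : u ∈ maximalIdeal (N.X.presheaf.stalk z) :=
    IsLocalRing.le_maximalIdeal (by
      rw [← hP]
      exact Ideal.comap_ne_top _ (IsLocalRing.maximalIdeal.isMaximal _).ne_top) (Ideal.mem_span_singleton_self u)
  have huJ : u ∈ Div21Lib.st J z := by
    by_contra hnot
    have hsub : maximalIdeal (M₁.X.presheaf.stalk w) ≤
        maximalIdeal (M₁.X.presheaf.stalk w) * maximalIdeal (M₁.X.presheaf.stalk w) := by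
      conv_lhs => rw [← hst]
      refine Ideal.map_le_iff_le_comap.2 fun t ht => ?_
      let t' : M.X.presheaf.stalk (φ z) := M.X.presheaf.stalkSpecializes
        (specializes_of_eq (hφz.trans (hfib.ge (subset_closure rfl)).symm : φ z = b w)) t
      have ht' : t' ∈ Div21Lib.st (pointIdeal hx) (φ z) := by
        rw [Div21Lib.st_specializes (pointIdeal hx)
          (specializes_of_eq (hφz.trans (hfib.ge (subset_closure rfl)).symm : φ z = b w))]
        exact Ideal.mem_map_of_mem _ ht
      have hJt : φ.stalkMap z t' ∈ Div21Lib.st J z := by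
        rw [Div21Lib.st_comap]
        exact Ideal.mem_map_of_mem _ ht'
      obtain ⟨a, ha⟩ := Ideal.mem_span_singleton'.1 (hJle hJt)
      have hnu : ¬ IsUnit a := by
        rintro ⟨a, rfl⟩
        refine hnot ?_
        rw [show u = (↑a⁻¹ : N.X.presheaf.stalk z) * φ.stalkMap z t' by rw [← ha, Units.inv_mul_cancel_left]]
        exact Ideal.mul_mem_left _ _ hJt
      have key : χw (b.stalkMap w t) = ψ (φ.stalkMap z t') := by
        apply Subtype.ext
        show MdlMap.phi M₁.g (M₁.spec w) (b.stalkMap w t) = MdlMap.phi N.g (N.spec z) (φ.stalkMap z t')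
        have e1 : MdlMap.phi M₁.g (M₁.spec w) (b.stalkMap w t) = MdlMap.phi M.g (M.spec (b w)) t :=
          (MdlMap.phi_map M₁.g b (M₁.spec w) t).trans (MdlMap.phi_congr hb.2 _ t)
        have e2 : MdlMap.phi N.g (N.spec z) (φ.stalkMap z t') = MdlMap.phi M.g (M.spec (φ z)) t' :=
          (MdlMap.phi_map N.g φ (N.spec z) t').trans (MdlMap.phi_congr hφ.2 _ t')
        rw [e1, e2]
        show _ = (M.g.stalkMap (genericPoint C)) (M.X.presheaf.stalkSpecializes _ t')
        simp only [t', ← CommRingCat.comp_apply, ← Category.assoc, TopCat.Presheaf.stalkSpecializes_comp]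
        rfl
      have hmemV : ∀ c : N.X.presheaf.stalk z, ¬ IsUnit c → eV.symm (ψ c) ∈ maximalIdeal _ := fun c hc h =>
        hc (hlocz.map_nonunit c (by simpa using h.map eV))
      rw [Ideal.mem_comap, show b.stalkMap w t = eV.symm (ψ (a * u)) from
        eV.injective (by rw [eV.apply_symm_apply]; exact key.trans (congrArg ψ ha.symm)), map_mul, map_mul]
      exact Ideal.mul_mem_mul (hmemV a hnu) (hmemV u hum)
    have hbot : maximalIdeal (M₁.X.presheaf.stalk w) = ⊥ :=
      Submodule.eq_bot_of_le_smul_of_le_jacobson_bot _ _ (IsNoetherian.noetherian _)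
        (by rwa [smul_eq_mul]) (IsLocalRing.maximalIdeal_le_jacobson _)
    obtain ⟨t, ht, he⟩ := Div21Lib.exists_gen _ hbl.1 w
    rw [Div21Lib.st_comap, hst, hbot] at he
    exact nonZeroDivisors.ne_zero ht (Ideal.span_singleton_eq_bot.1 he.symm)
  have hJ : Div21Lib.st J z = Ideal.span {u} :=
    le_antisymm hJle ((Ideal.span_singleton_le_iff_mem _).2 huJ)
  -- the universal property
  have hcart : BlowUp.IsEffCartierIdeal ((pointIdeal hx).comap (N.X.fromSpecStalk z ≫ φ)) := by
    rw [Scheme.IdealSheafData.comap_comp]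
    refine Div21Lib.isEffCartier_of_top _ _ (g := (Scheme.ΓSpecIso A).inv u) ?_ ?_
    · exact Div21Lib.equiv_mem_nonZeroDivisors (Scheme.ΓSpecIso A).symm.commRingCatIsoToRingEquiv
        (mem_nonZeroDivisors_of_ne_zero hu0)
    · rw [Div21Lib.ideal_comap_fromSpecStalk, hJ, Ideal.map_span, Set.image_singleton]
  obtain ⟨h, hh, -⟩ := hbl.2 _ _ hcart
  let c : M₁.X := h (IsLocalRing.closedPoint A)
  let χ : M₁.X.presheaf.stalk c ⟶ A := Scheme.stalkClosedPointTo h
  let Φ : A ⟶ C.functionField := CommRingCat.ofHom (MdlMap.phi N.g (N.spec z))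
  have hgen : Spec.map Φ ≫ N.X.fromSpecStalk z = C.fromSpecStalk (genericPoint C) ≫ N.g := by
    rw [show Φ = N.X.presheaf.stalkSpecializes (N.spec z) ≫ N.g.stalkMap (genericPoint C) from rfl,
      Spec.map_comp, Category.assoc, Scheme.SpecMap_stalkSpecializes_fromSpecStalk,
      Scheme.SpecMap_stalkMap_fromSpecStalk]
  have hKcart : BlowUp.IsEffCartierIdeal ((pointIdeal hx).comap (C.fromSpecStalk (genericPoint C) ≫ M.g)) := by
    have htop : (pointIdeal hx).comap (C.fromSpecStalk (genericPoint C) ≫ M.g) = ⊤ := by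
      refine (Scheme.IdealSheafData.support_eq_bot_iff _).1 (Closeds.ext (Set.eq_empty_of_forall_notMem fun q hq => ?_))
      rw [SetLike.mem_coe, Scheme.IdealSheafData.support_comap] at hq
      have h1 : M.g (C.fromSpecStalk (genericPoint C) q) = φ y := (mem_support_pointIdeal hx).1 hq
      have h2 : M.g (C.fromSpecStalk (genericPoint C) q) ∈ Set.range M.g := ⟨_, rfl⟩
      rw [h1, MdlMap.range_iota M.hg] at h2
      exact IsDiscreteValuationRing.not_a_field R
        (congrArg PrimeSpectrum.asIdeal ((MdlRegPt.mem_F_iff.1 hxF).symm.trans h2))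
    rw [htop]
    refine Div21Lib.isEffCartier_of_top (C.presheaf.stalk (genericPoint C)) _ (g := 1) (one_mem _) ?_
    simp
  have hcomp : Spec.map Φ ≫ h = C.fromSpecStalk (genericPoint C) ≫ M₁.g := by
    refine (hbl.2 _ _ hKcart).unique ?_ ?_
    · show (Spec.map Φ ≫ h) ≫ b = _
      rw [Category.assoc, hh, ← Category.assoc, hgen, Category.assoc, hφ.2]
    · show (_ ≫ M₁.g) ≫ b = _
      rw [Category.assoc, hb.2]
  have hphi : ∀ t, MdlMap.phi M₁.g (M₁.spec c) t = MdlMap.phi N.g (N.spec z) (χ t) := by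
    have h1 : Spec.map (χ ≫ Φ) ≫ M₁.X.fromSpecStalk c =
        Spec.map (M₁.X.presheaf.stalkSpecializes (M₁.spec c) ≫ M₁.g.stalkMap (genericPoint C)) ≫
          M₁.X.fromSpecStalk c := by
      rw [Spec.map_comp, Spec.map_comp, Category.assoc, Category.assoc,
        show Spec.map χ ≫ M₁.X.fromSpecStalk c = h from Scheme.Spec_stalkClosedPointTo_fromSpecStalk h,
        Scheme.SpecMap_stalkSpecializes_fromSpecStalk, Scheme.SpecMap_stalkMap_fromSpecStalk, hcomp]
    have h2 := Spec.map_injective ((cancel_mono _).1 h1)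
    exact fun t => (congrArg (fun m => m.hom t) h2).symm
  have hcc : M₁.IsCentre V c := by
    refine ⟨fun t => hphi t ▸ hVz _, ⟨fun t ht => ?_⟩⟩
    refine isUnit_of_map_unit χ.hom t (hlocz.map_nonunit _ ?_)
    convert ht using 1
    exact Subtype.ext (hphi t).symm
  have hring : N.ring z = (V : Set C.functionField) := by
    refine Set.Subset.antisymm (by rintro _ ⟨t, rfl⟩; exact hVz t) fun k hk => ?_
    have hk' : k ∈ M₁.ring c := by
      rw [hcc.unique hcw]
      exact hVw ▸ hk
    obtain ⟨t, rfl⟩ := hk'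
    exact ⟨χ t, (hphi t).symm⟩
  let eA : N.X.presheaf.stalk z ≃+* V := RingEquiv.ofBijective ψ
    ⟨fun a c h => MdlMap.phi_injective N.g N.g_generic (N.spec z) (congrArg Subtype.val h), fun k => by
      obtain ⟨t, ht⟩ := hring.ge k.2
      exact ⟨t, Subtype.ext ht⟩⟩
  haveI : ValuationRing (N.X.presheaf.stalk z) :=
    Function.Surjective.valuationRing eA.symm.toRingHom eA.symm.surjective
  haveI : IsPrincipalIdealRing (N.X.presheaf.stalk z) :=
    ((IsBezout.TFAE (R := N.X.presheaf.stalk z)).out 0 1).1 (inferInstance : IsNoetherianRing _)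
  have h2 := GRModel.ringKrullDim_stalk_closed N.hg hdim hzF hzc
  have h1 : ringKrullDim (N.X.presheaf.stalk z) ≤ 1 := Ring.krullDimLE_iff.1 inferInstance
  rw [h2] at h1
  exact absurd h1 (by norm_num)

/-- The first blow-up through which a non-isomorphism factors. -/
theorem exists_first (hdim : topologicalKrullDim C = 1) {φ : N.X ⟶ M.X} (hφ : N.IsMor M φ)
    (h : ¬ N.vals ⊆ M.vals) :
    ∃ (M₁ : RModel f) (b : M₁.X ⟶ M.X) (S : Set C.functionField) (ψ : N.X ⟶ M₁.X),
      IsStep M₁ M b S ∧ N.IsMor M₁ ψ ∧ ψ ≫ b = φ := by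
  obtain ⟨_, ⟨y, hy, rfl⟩, hyn⟩ := Set.not_subset.1 h
  have hxF : φ y ∈ Models.specialFibreSet R (Over.mk M.p) :=
    MdlRegPt.mem_F_iff.2 ((hφ.over y).trans (MdlRegPt.mem_F_iff.1 hy.1))
  have hxm : ¬ MdlMap.IsMaxSpecial M.p (φ y) := fun hm =>
    hyn ⟨_, hm, MdlMap.eq_of_valSet (M.valSet_of_max hm) (hφ.dom y)⟩
  have hx := M.isClosed_of_not_max hdim hxF hxm
  obtain ⟨M₁, b, w, hs, hfib, hbl, hw⟩ := M.exists_step_blow hdim hxF hx
  have hmem := ring_mem_of_contracted hdim hφ hy hxF hx hs.1 hbl hw hfib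
  obtain ⟨ψ, hψ⟩ := exists_mor (M := N) (N := M₁) hdim
    (hs.2.1 ▸ Set.insert_subset hmem hφ.vals_subset)
  exact ⟨M₁, b, _, ψ, hs, hψ, (hψ.comp hs.1).unique hφ⟩

theorem IsStep.ncard_lt {Z : RModel f} {b : N.X ⟶ Z.X} {S : Set C.functionField} (h : IsStep N Z b S) :
    Z.vals.ncard < N.vals.ncard := by
  refine Set.ncard_lt_ncard ⟨h.1.vals_subset, fun hle => h.2.2.1 (hle ?_)⟩ N.finite_vals
  rw [h.2.1]
  exact Set.mem_insert _ _

/-- The last contraction in a morphism of models. -/
theorem exists_last (hdim : topologicalKrullDim C = 1) {φ : N.X ⟶ M.X} (hφ : N.IsMor M φ)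
    (h : ¬ N.vals ⊆ M.vals) :
    ∃ (Z : RModel f) (b : N.X ⟶ Z.X) (S : Set C.functionField) (ψ : Z.X ⟶ M.X),
      IsStep N Z b S ∧ Z.IsMor M ψ ∧ b ≫ ψ = φ := by
  induction hn : (N.vals \ M.vals).ncard using Nat.strong_induction_on generalizing M with
  | _ n ih =>
    obtain ⟨M₁, b₁, S₁, ψ₁, hs, hψ₁, he⟩ := exists_first hdim hφ h
    by_cases h₁ : N.vals ⊆ M₁.vals
    · haveI := hψ₁.isIso hdim h₁
      exact ⟨M, ψ₁ ≫ b₁, S₁, 𝟙 M.X, hs.comp_iso hdim hψ₁, ⟨Category.id_comp _, Category.comp_id _⟩,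
        (Category.comp_id _).trans he⟩
    have hlt : (N.vals \ M₁.vals).ncard < n := by
      rw [← hn]
      refine Set.ncard_lt_ncard ⟨Set.sdiff_subset_sdiff_right hs.1.vals_subset, fun hle => ?_⟩
        (N.finite_vals.subset Set.sdiff_subset)
      have hm : S₁ ∈ M₁.vals := hs.2.1 ▸ Set.mem_insert _ _
      exact (hle ⟨hψ₁.vals_subset hm, hs.2.2.1⟩).2 hm
    obtain ⟨Z, b, S, ψ, hZ, hψ, hb⟩ := ih _ hlt hψ₁ h₁ rfl
    exact ⟨Z, b, S, ψ ≫ b₁, hZ, hψ.comp hs.1, by rw [← Category.assoc, hb, he]⟩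

/-- Every morphism of regular models is a composite of contractions. -/
theorem IsMor.isContractionSeq (hdim : topologicalKrullDim C = 1) {φ : N.X ⟶ M.X} (hφ : N.IsMor M φ) :
    Models.IsContractionSeq φ := by
  induction hn : N.vals.ncard using Nat.strong_induction_on generalizing N with
  | _ n ih =>
    by_cases h : N.vals ⊆ M.vals
    · haveI := hφ.isIso hdim h
      exact Models.IsContractionSeq.iso (asIso φ)
    obtain ⟨Z, b, S, ψ, hs, hψ, he⟩ := exists_last hdim hφ h
    have hlt := hs.ncard_lt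
    obtain ⟨-, -, -, G, w, x, hx, W, -, -, -, hexc, hcon, -⟩ := id hs
    rw [← he]
    exact Models.IsContractionSeq.step G.ι b ψ G.isClosedImmersion hexc hcon (ih _ (hn ▸ hlt) hψ rfl)

/-- An exceptional curve is one of the listed components. -/
theorem exists_index {n : ℕ} {Γ : Fin n → ArSurf.VertComp R (Over.mk N.p)} (S : MdlInter.Setting N.p Γ)
    (H : ArSurf.VertComp R (Over.mk N.p)) (hH : Models.IsExcCurve H.ι) : ∃ i,
      Set.range (MdlInter.iotaX (Γ i)) = Set.range (MdlInter.iotaX H) ∧ Models.IsExcCurve (Γ i).ι := by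
  obtain ⟨i, e, he⟩ := MdlInter.exists_iso_component S H
  refine ⟨i, ?_, ?_⟩
  · rw [← he]
    refine Set.Subset.antisymm (by rintro _ ⟨z, rfl⟩; exact ⟨e.hom z, rfl⟩) ?_
    rintro _ ⟨z, rfl⟩
    refine ⟨e.inv z, ?_⟩
    rw [← Scheme.Hom.comp_apply, e.inv_hom_id_assoc]
  · obtain ⟨hI, k, _, e', ⟨t⟩⟩ := hH
    have hker : (MdlInter.iotaX (Γ i)).ker = (MdlInter.iotaX H).ker := by
      rw [← he, Scheme.Hom.ker_comp_of_isIso]
    refine ⟨hker ▸ hI, k, inferInstance, e' ≪≫ e.symm, ⟨?_⟩⟩
    show (Scheme.Modules.pullback ((e' ≪≫ e.symm).hom ≫ MdlInter.iotaX (Γ i))).obj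
      (ClSub.idealMod (MdlInter.iotaX (Γ i)).ker) ≅ _
    rw [hker]
    exact (Scheme.Modules.pullbackCongr (show (e' ≪≫ e.symm).hom ≫ MdlInter.iotaX (Γ i) = e'.hom ≫ MdlInter.iotaX H by
      rw [Iso.trans_hom, Category.assoc, ← he]; simp)).app _ ≪≫ t

variable (hC : Curve.IsSmoothProperCurve (FractionRing R) C f) (hH0 : IsIso f.appTop)

include hC hH0 in
/-- On a model of a curve of positive genus exceptional curves are disjoint. -/
theorem exc_disjoint (hg : 0 < Models.curveGenus (FractionRing R) C f)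
    (G G' : ArSurf.VertComp R (Over.mk N.p)) {w w' : N.X} (hne : w ≠ w')
    (hG : Set.range (MdlInter.iotaX G) = closure {w}) (hG' : Set.range (MdlInter.iotaX G') = closure {w'})
    (he : Models.IsExcCurve G.ι) (he' : Models.IsExcCurve G'.ι) :
    Disjoint (closure ({w} : Set N.X)) (closure {w'}) := by
  obtain ⟨n, Γ, hΓ⟩ := GRModel.exists_componentList N.hg hC.2.2.2
  have S := MdlInter.setting_of_model N.hX hΓ
  obtain ⟨i, hi, hie⟩ := exists_index S G he
  obtain ⟨j, hj, hje⟩ := exists_index S G' he'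
  have hij : i ≠ j := fun e => hne <| by
    subst e
    exact (isGenericPoint_closure (x := w)).eq
      (show IsGenericPoint w' _ from ((hi.symm.trans hj).symm ▸ hG' |>.symm.trans hG))
  by_contra hd
  have h := MdlSection.exc_meet hC hH0 N.hX hΓ i j hij hie hje (fun hd' => hd ?_)
  · omega
  · rw [← hG, ← hG', ← hi, ← hj]
    exact hd'

include hC hH0 in
/-- A minimal model contains no exceptional curve of a model mapping to it. -/
theorem notMem_of_minimal (hg : 0 < Models.curveGenus (FractionRing R) C f)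
    (hM : Models.IsMinimalModel R M.X M.p C f) {φ : N.X ⟶ M.X} (hφ : N.IsMor M φ)
    {S : Set C.functionField} (hS : N.ExcAt S) : S ∉ M.vals := by
  induction hn : N.vals.ncard using Nat.strong_induction_on generalizing N with
  | _ n ih =>
    intro hSM
    by_cases h : N.vals ⊆ M.vals
    · haveI := hφ.isIso hC.2.2.2 h
      haveI : IsIso (φ ∣_ ⊤) := inferInstance
      exact not_excAt hM S (hS.transfer hC.2.2.2 hφ hSM ⊤ fun _ _ _ _ => trivial)
    obtain ⟨Z, b, S₁, ψ, hs, hψ, he⟩ := exists_last hC.2.2.2 hφ h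
    have hlt := hs.ncard_lt
    obtain ⟨hb, hvals, hnot, G₁, w₁, x, hx, W, hw₁, hwS₁, hG₁, hexc₁, -, hfib, hW, hiso⟩ := id hs
    have hSZ : S ∈ Z.vals := hψ.vals_subset hSM
    obtain ⟨G, w, hw, hwS, hG, hexc⟩ := id hS
    have hne : w ≠ w₁ := fun e => hnot (by rw [← hwS₁, ← e, hwS]; exact hSZ)
    have hd := exc_disjoint hC hH0 hg G G₁ hne hG hG₁ hexc hexc₁
    refine ih _ (hn ▸ hlt) hψ (hS.transfer hC.2.2.2 hb hSZ W fun w' hw' q hq => ?_) rfl hSM
    rw [N.ring_injective (hw'.trans hwS.symm)] at hq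
    rw [Set.mem_preimage, hW, Set.mem_compl_singleton_iff]
    exact fun hbq => hd.le_bot ⟨hq, hfib.le hbq⟩

include hC hH0 in
/-- A minimal model of a curve of positive genus is dominated by every regular model. -/
theorem vals_subset_of_minimal (hg : 0 < Models.curveGenus (FractionRing R) C f)
    (hM : Models.IsMinimalModel R M.X M.p C f) (Q : RModel f) : M.vals ⊆ Q.vals := by
  obtain ⟨Y, θ, φ, hθ, hφ⟩ := exists_dominating hC.2.2.2 Q M
  induction hn : Y.vals.ncard using Nat.strong_induction_on generalizing Y with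
  | _ n ih =>
    by_cases h : Y.vals ⊆ Q.vals
    · exact hφ.vals_subset.trans h
    obtain ⟨Z, b, S, θ', hs, hθ', -⟩ := exists_last hC.2.2.2 hθ h
    have hS := notMem_of_minimal hC hH0 hg hM hφ hs.excAt
    have hsub : M.vals ⊆ Z.vals := fun V hV =>
      (Set.mem_insert_iff.1 (hs.2.1 ▸ hφ.vals_subset hV)).resolve_left fun e => hS (by rw [← e]; exact hV)
    obtain ⟨φ', hφ'⟩ := exists_mor hC.2.2.2 hsub
    exact ih _ (hn ▸ hs.ncard_lt) Z θ' φ' hθ' hφ' rfl

end RModel

end Groth.Agent.SurfModel
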