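import Groth.Agent.MdlHoriz.Horiz
import Groth.Agent.NormX.AmpleFibre
import Groth.Agent.NormX.ClosedCover
import Groth.Agent.IntNum.CurveAmple
import Groth.Agent.GRModel.Surface
import Groth.Agent.GRModel.FromModel
import Groth.Agent.H23.PicInv
import Groth.Agent.MdlInter.Conn

/-!
# A regular proper model has an ample line bundle

Through a closed point of each component of the closed fibre we choose a horizontal prime divisor; the line
bundle of their sum has positive degree on every component.
-/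

set_option linter.style.haveILetI false
set_option linter.unusedSectionVars false
set_option backward.isDefEq.respectTransparency false
set_option backward.isDefEq.respectTransparency.types false
set_option maxHeartbeats 1000000

universe u

open CategoryTheory CategoryTheory.Limits AlgebraicGeometry TopologicalSpace
open Groth.Agent.H23.PicMul
open scoped Groth.Agent.H23.PicMul

noncomputable section

namespace Groth.Agent.MdlInter

open Groth.Agent
open Groth.Agent.DepthTwist (stI)

variable {R : Type u} [CommRing R] [IsDomain R] [IsDiscreteValuationRing R]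
  {X : Scheme.{u}} {p : X ⟶ Spec (CommRingCat.of R)}

namespace Setting

variable {n : ℕ} {Γ : Fin n → ArSurf.VertComp R (Over.mk p)} (S : Setting p Γ)
include S

/-- A horizontal effective Cartier divisor meeting a given component. -/
theorem exists_horizontal_meet [IsProper p] (i : Fin n) :
    ∃ D : X.IdealSheafData, BlowUp.IsEffCartierIdeal D ∧ (∀ j, gp Γ j ∉ D.support) ∧
      ∃ y : (Γ i).curve.left, iotaC (Γ i) y ∈ D.support := by
  obtain ⟨y, -, hdvr, hj⟩ := S.exists_point_on i
  haveI := hdvr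
  obtain ⟨ϖ, hϖ⟩ := IsDiscreteValuationRing.exists_irreducible R
  have hm := hϖ.maximalIdeal_eq
  haveI := S.noeth
  obtain ⟨t, htp, -, htpi⟩ := S.exists_prime_transversal hm hϖ.ne_zero hj
  let x := iotaC (Γ i) y
  haveI := S.isDomain_stalk x
  haveI : (Ideal.span {t}).IsPrime := (Ideal.span_singleton_prime htp.ne_zero).2 htp
  obtain ⟨ξ, hξx, hξ⟩ := H23.StalkPrimes.exists_point (Ideal.span {t})
  have hξF : ξ ∉ Models.specialFibreSet R (Over.mk p) := by
    rw [← isUnit_pi_iff p hm, not_not]
    by_contra hu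
    apply htpi
    rw [← hξ, CDiv6.mem_primeOf]
    convert hu using 2
    exact congrArg (fun f => f.hom (Coh.toGlobal p ϖ)) (X.presheaf.germ_stalkSpecializes (Opens.mem_top x) hξx)
  haveI := S.isDomain_stalk ξ
  let τ := (X.presheaf.stalkSpecializes hξx).hom t
  have hτ : IsLocalRing.maximalIdeal (X.presheaf.stalk ξ) = Ideal.span {τ} := by
    rw [maximalIdeal_eq_map hξx, hξ, Ideal.map_span, Set.image_singleton]
  have hτ0 : τ ≠ 0 := fun h0 => htp.ne_zero (S.injective_specializes hξx (h0.trans (map_zero _).symm))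
  have hτu : ¬ IsUnit τ := (IsLocalRing.mem_maximalIdeal _).1 (hτ ▸ Ideal.mem_span_singleton_self τ)
  have hprin : ∀ (z : X) (h : ξ ⤳ z), ∃ q : X.presheaf.stalk z, q ≠ 0 ∧ (CDiv6.primeOf h).asIdeal = Ideal.span {q} := by
    intro z h
    haveI := S.isDomain_stalk z
    haveI := S.ufm_stalk z
    haveI hP : (CDiv6.primeOf h).asIdeal.IsPrime := (CDiv6.primeOf h).2
    letI := (X.presheaf.stalkSpecializes h).hom.toAlgebra
    haveI := H23.StalkPrimes.isLocalization_primeOf h
    let φ := algebraMap (X.presheaf.stalk z) (X.presheaf.stalk ξ)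
    have hmap : IsLocalRing.maximalIdeal (X.presheaf.stalk ξ) = (CDiv6.primeOf h).asIdeal.map φ :=
      maximalIdeal_eq_map h
    have hne : (CDiv6.primeOf h).asIdeal ≠ ⊥ := fun hb => hτ0 (by
      have hmem : τ ∈ IsLocalRing.maximalIdeal (X.presheaf.stalk ξ) := hτ ▸ Ideal.mem_span_singleton_self τ
      rw [hmap, hb, Ideal.map_bot] at hmem
      exact (Submodule.mem_bot _).1 hmem)
    obtain ⟨q, hqP, hq⟩ := Ideal.IsPrime.exists_mem_prime_of_ne_bot hP hne
    refine ⟨q, hq.ne_zero, le_antisymm (fun r hr => ?_) ((Ideal.span_singleton_le_iff_mem _).2 hqP)⟩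
    have hin : ∀ r ∈ (CDiv6.primeOf h).asIdeal, ∃ a, φ r = τ * a := fun r hr => by
      have hmem : φ r ∈ IsLocalRing.maximalIdeal (X.presheaf.stalk ξ) := hmap ▸ Ideal.mem_map_of_mem φ hr
      rw [hτ, Ideal.mem_span_singleton] at hmem
      exact hmem
    obtain ⟨a, ha⟩ := hin q hqP
    obtain ⟨b, hb⟩ := hin r hr
    obtain ⟨⟨a₁, s⟩, hs⟩ := IsLocalization.surj (CDiv6.primeOf h).asIdeal.primeCompl a
    obtain ⟨⟨b₁, s'⟩, hs'⟩ := IsLocalization.surj (CDiv6.primeOf h).asIdeal.primeCompl b
    have hinj : Function.Injective φ := S.injective_specializes h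
    have e : r * a₁ * s' = q * b₁ * s := hinj (by
      simp only [map_mul]
      change φ r * φ a₁ * φ s' = φ q * φ b₁ * φ s
      change a * φ s = φ a₁ at hs
      change b * φ s' = φ b₁ at hs'
      rw [← hs, ← hs', ha, hb]
      ring)
    have hdvd : q ∣ r * a₁ * s' := ⟨b₁ * s, by rw [e]; ring⟩
    rcases hq.dvd_or_dvd hdvd with h1 | h1
    · rcases hq.dvd_or_dvd h1 with h2 | ⟨c, hc⟩
      · exact Ideal.mem_span_singleton.2 h2
      · exfalso
        have hsu : IsUnit (φ s) := IsLocalization.map_units (X.presheaf.stalk ξ) s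
        obtain ⟨w, hw⟩ := hsu.exists_left_inv
        refine hτu (IsUnit.of_mul_eq_one (φ c * w) ?_)
        have hq0 : φ q ≠ 0 := fun h0 => hq.ne_zero (hinj (h0.trans (map_zero φ).symm))
        have ha0 : a ≠ 0 := fun h0 => hq0 (by rw [ha, h0, mul_zero])
        change a * φ s = φ a₁ at hs
        rw [hc, map_mul, ha] at hs
        refine mul_left_cancel₀ ha0 ?_
        calc a * (τ * (φ c * w)) = (τ * a * φ c) * w := by ring
          _ = a * φ s * w := by rw [hs]
          _ = a * 1 := by rw [mul_assoc, mul_comm (φ s), hw]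
    · exact absurd (Ideal.mem_of_dvd _ h1 hqP) s'.2
  obtain ⟨Z, ι, _, _, hgen⟩ := MdlHoriz.exists_integral_closed ξ
  have hgp : ∀ j, ¬ ξ ⤳ gp Γ j := by
    intro j h
    obtain ⟨U, hU⟩ := exists_affine (gp Γ j)
    haveI := S.isDomain_stalk (gp Γ j)
    obtain ⟨r, hr0, hr⟩ := S.exists_span hm hϖ.ne_zero U hU j
    rw [S.stI_comp_gp U j j, if_pos rfl] at hr
    obtain ⟨q, hq0, hq⟩ := hprin _ h
    haveI hP : (CDiv6.primeOf h).asIdeal.IsPrime := (CDiv6.primeOf h).2
    have hne : (CDiv6.primeOf h).asIdeal ≠ IsLocalRing.maximalIdeal _ := by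
      intro he
      have h2 : ξ = gp Γ j := H23.StalkPrimes.primeOf_inj h specializes_rfl (he.trans (by
        ext g
        rw [CDiv6.mem_primeOf, IsLocalRing.mem_maximalIdeal, mem_nonunits_iff, TopCat.Presheaf.stalkSpecializes_refl]
        rfl))
      exact hξF (h2 ▸ S.gp_mem j)
    have hrP : r ∉ (CDiv6.primeOf h).asIdeal := fun hrP => hne (le_antisymm
      (IsLocalRing.le_maximalIdeal hP.ne_top) (by rw [hr, Ideal.span_le, Set.singleton_subset_iff]; exact hrP))
    have hqP : q ∈ (CDiv6.primeOf h).asIdeal := hq ▸ Ideal.mem_span_singleton_self q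
    have hqr : q ∈ Ideal.span {r} := hr ▸ IsLocalRing.le_maximalIdeal hP.ne_top hqP
    obtain ⟨c, rfl⟩ := Ideal.mem_span_singleton.1 hqr
    have hc : c ∈ (CDiv6.primeOf h).asIdeal := (hP.mem_or_mem hqP).resolve_left hrP
    rw [hq, Ideal.mem_span_singleton] at hc
    obtain ⟨d, hd⟩ := hc
    have hc0 : c ≠ 0 := fun h0 => hq0 (by rw [h0, mul_zero])
    have h1 : r * d = 1 := mul_left_cancel₀ hc0 (by linear_combination -hd)
    have hru : IsUnit r := IsUnit.of_mul_eq_one d h1
    exact (IsLocalRing.maximalIdeal.isMaximal _).ne_top (hr.trans (Ideal.span_singleton_eq_top.2 hru))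
  have hsup : ∀ z : X, z ∈ ι.ker.support ↔ ξ ⤳ z := fun z => by
    rw [← SetLike.mem_coe, Scheme.Hom.support_ker, ι.isClosedEmbedding.isClosed_range.closure_eq, mem_range_iff ι]
    subst hgen
    rfl
  refine ⟨ι.ker, S1570.result X _ fun z hz U hzU => ?_, fun j hj' => hgp j ((hsup _).1 hj'),
    y, (hsup _).2 hξx⟩
  have h := (hsup z).1 hz
  haveI := S.isDomain_stalk z
  obtain ⟨q, hq0, hq⟩ := hprin z h
  refine ⟨q, mem_nonZeroDivisors_of_ne_zero hq0, ?_⟩
  subst hgen
  exact (stI_of_specializes ι U hzU h).trans hq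

/-- The degree on a component of a divisor not containing it. -/
theorem inter_divisor [IsProper p] {D : X.IdealSheafData} (hD : BlowUp.IsEffCartierIdeal D) {L : X.Modules}
    (hL : PicF.IsInvertible L) (hLD : PicF.cl L * PicF.cl (ClSub.idealMod D) = 1) (j : Fin n)
    (hj : gp Γ j ∉ D.support) :
    0 ≤ ArSurf.inter R (Over.mk p) L (Γ j) ∧
      ((∃ y, iotaC (Γ j) y ∈ D.support) → 0 < ArSurf.inter R (Over.mk p) L (Γ j)) := by
  let ι : (Γ j).curve.left ⟶ X := (Γ j).ι
  let D' := D.comap ι
  have hD' : BlowUp.IsEffCartierIdeal D' := by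
    refine S8862.result ι _ hD fun ξ hξ => ?_
    rw [hξ (genericPoint _) (genericPoint_specializes ξ) |>.symm]
    exact hj
  obtain ⟨e⟩ := CurveAlgEqLib.nonempty_pullback_idealMod ι ((S8914.result _).2 hD) ((S8914.result _).2 hD')
  have hLD' : ClSub.IsInverseOf ((Scheme.Modules.pullback ι).obj L) (ClSub.idealMod D') := by
    refine cl_eq_iff.1 ?_
    rw [cl_tensor, ← H23.PicMul.one_def, ← cl_eq_iff.2 ⟨e⟩]
    have h := congrArg (pullHom ι) hLD
    rw [map_mul, map_one] at h
    exact h
  haveI : IsProper ((Γ j).curve.left ↘ Spec (CommRingCat.of (IsLocalRing.ResidueField R))) := isProper_curve (Γ j)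
  obtain ⟨hfin, hdeg⟩ := curveDeg_divisor (IsLocalRing.ResidueField R) (Γ j).dim_eq hD'
    (PicClLib.isInvertible_pullback ι hL) hLD'
  have hdeg' : ArSurf.inter R (Over.mk p) L (Γ j) = fdim (IsLocalRing.ResidueField R)
      (D'.subschemeι ≫ (Γ j).curve.hom) := by
    refine hdeg.trans ?_
    rw [finrank_quotMod' (IsLocalRing.ResidueField R) D']
    rfl
  refine ⟨hdeg' ▸ Int.natCast_nonneg _, fun ⟨y, hy⟩ => ?_⟩
  rw [hdeg']
  let g : D'.subscheme ⟶ Spec (CommRingCat.of (IsLocalRing.ResidueField R)) := D'.subschemeι ≫ (Γ j).curve.hom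
  letI : D'.subscheme.Over (Spec (CommRingCat.of (IsLocalRing.ResidueField R))) := ⟨g⟩
  letI := GeomField.globalAlgebra (IsLocalRing.ResidueField R) D'.subscheme
  haveI hg : IsFinite g := hfin
  haveI : Module.Finite (IsLocalRing.ResidueField R) Γ(D'.subscheme, ⊤) :=
    RingHom.Finite.comp (IsFinite.finite_app (f := g) ⊤ (isAffineOpen_top _))
      (RingHom.Finite.of_surjective _ (ConcreteCategory.bijective_of_isIso
        (Scheme.ΓSpecIso (CommRingCat.of (IsLocalRing.ResidueField R))).inv).2)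
  have hy' : y ∈ (D'.support : Set (Γ j).curve.left) := by
    rw [Scheme.IdealSheafData.support_comap]
    exact hy
  rw [← Scheme.IdealSheafData.range_subschemeι] at hy'
  obtain ⟨z, -⟩ := hy'
  haveI : Nontrivial Γ(D'.subscheme, ⊤) := by
    refine ⟨⟨0, 1, fun h01 => ?_⟩⟩
    have h' := congrArg (D'.subscheme.presheaf.germ ⊤ z trivial).hom h01
    rw [map_zero, map_one] at h'
    exact zero_ne_one h'
  show (0 : ℤ) < ((Module.finrank (IsLocalRing.ResidueField R) Γ(D'.subscheme, ⊤) : ℕ) : ℤ)
  exact_mod_cast Module.finrank_pos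

/-- A regular proper model has an ample invertible module. -/
theorem exists_isAmple [IsProper p] : ∃ L : X.Modules, CohB1.IsAmple L := by
  choose D hD hgp hy using fun i => S.exists_horizontal_meet i
  choose L hL hLD using fun i => H23.PicInv.exists_inverse ((S8914.result (D i)).2 (hD i))
  have hcl : ∀ i, PicF.cl (L i) * PicF.cl (ClSub.idealMod (D i)) = 1 := fun i => by
    rw [mul_comm, ← cl_tensor, one_def]
    exact cl_eq_iff.2 (hLD i)
  let M := FGA.multiTwist L fun _ => 1
  have hM : PicF.IsInvertible M := isInvertible_multiTwist L hL _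
  refine ⟨M, ?_⟩
  letI : X.Over (Spec (CommRingCat.of R)) := ⟨p⟩
  haveI : IsProper (X ↘ Spec (CommRingCat.of R)) := ‹IsProper p›
  refine NormX.isAmple_of_closedFibre (A := R) hM ?_
  let m := IsLocalRing.maximalIdeal R
  let F := CohB1.thick p m 0
  have hspecm : ∀ j, ∃ z : (Γ j).curve.left ⟶ F, z ≫ CohB1.thickι p m 0 = iotaC (Γ j) := fun j => by
    let φ : R ⧸ m ^ (0 + 1) →+* IsLocalRing.ResidueField R :=
      Ideal.Quotient.lift _ (IsLocalRing.residue R) fun a ha => Ideal.Quotient.eq_zero_iff_mem.2 (by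
        rwa [zero_add, pow_one] at ha)
    refine ⟨pullback.lift (iotaC (Γ j)) ((Γ j).curve.hom ≫ Spec.map (CommRingCat.ofHom φ)) ?_, pullback.lift_fst _ _ _⟩
    show iotaC (Γ j) ≫ p = _
    rw [Category.assoc, CohB1.specQuot, ← Spec.map_comp]
    exact (Γ j).w
  choose z hz using hspecm
  haveI : IsClosedImmersion (CohB1.specQuot m 0) := by
    unfold CohB1.specQuot
    exact IsClosedImmersion.spec_of_surjective _ Ideal.Quotient.mk_surjective
  haveI : IsClosedImmersion (CohB1.thickι p m 0) := inferInstanceAs (IsClosedImmersion (pullback.fst _ _))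
  haveI : IsProper (CohB1.thickι p m 0 ≫ p) := inferInstance
  refine NormX.isAmple_of_closed_cover (CohB1.thickι p m 0 ≫ p) (PicClLib.isInvertible_pullback _ hM)
    (fun j => (Γ j).curve.left) z (fun j => ?_) (fun w => ?_) (fun j => ?_)
  · haveI : IsClosedImmersion (z j ≫ CohB1.thickι p m 0) := (hz j).symm ▸ (Γ j).isClosedImmersion
    haveI : IsClosedImmersion (z j) := IsClosedImmersion.of_comp (z j) (CohB1.thickι p m 0)
    infer_instance
  · have hw : CohB1.thickι p m 0 w ∈ Models.specialFibreSet R (Over.mk p) := by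
      show p (CohB1.thickι p m 0 w) = IsLocalRing.closedPoint R
      rw [← Scheme.Hom.comp_apply, pullback.condition, Scheme.Hom.comp_apply]
      let q : PrimeSpectrum (R ⧸ m ^ (0 + 1)) := pullback.snd p (CohB1.specQuot m 0) w
      refine PrimeSpectrum.ext ((IsLocalRing.maximalIdeal.isMaximal R).eq_of_le
        (show (q.asIdeal.comap (Ideal.Quotient.mk _)).IsPrime from inferInstance).ne_top ?_).symm
      intro a ha
      show Ideal.Quotient.mk _ a ∈ q.asIdeal
      rw [Ideal.Quotient.eq_zero_iff_mem.2 (by rwa [zero_add, pow_one])]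
      exact zero_mem _
    obtain ⟨j, hj⟩ := S.exists_gp hw
    obtain ⟨c, hc⟩ := (mem_range_iff (iotaC (Γ j))).2 hj
    refine ⟨j, c, (CohB1.thickι p m 0).isClosedEmbedding.injective ?_⟩
    rw [← Scheme.Hom.comp_apply, hz]
    exact hc
  · refine AmpleX.isAmple_of_iso (((Scheme.Modules.pullbackComp (z j) _).app M ≪≫
      (Scheme.Modules.pullbackCongr (hz j)).app M)).symm ?_
    haveI : IsProper ((Γ j).curve.left ↘ Spec (CommRingCat.of (IsLocalRing.ResidueField R))) := isProper_curve (Γ j)
    have hpos : 0 < ArSurf.inter R (Over.mk p) M (Γ j) := by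
      rw [inter_multiTwist (Γ j) L hL]
      refine Finset.sum_pos' (fun i _ => ?_) ⟨j, Finset.mem_univ _, ?_⟩
      · simpa using (S.inter_divisor (hD i) (hL i) (hcl i) j (hgp i j)).1
      · simpa using (S.inter_divisor (hD j) (hL j) (hcl j) j (hgp j j)).2 (hy j)
    have hMj := PicClLib.isInvertible_pullback (iotaC (Γ j)) hM
    haveI := CurveCohLib.isNoetherian_of_proper (k := IsLocalRing.ResidueField R) (X := (Γ j).curve.left)
    refine IntNum.isAmple_of_deg_pos (IsLocalRing.ResidueField R) (Γ j).dim_eq.le hMj fun Z i _ _ hZ => ?_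
    let Y := (Γ j).curve.left
    have hsurj : Set.range i = Set.range (𝟙 Y : Y ⟶ Y) := by
      refine Set.Subset.antisymm (fun q _ => ⟨q, rfl⟩) ?_
      rintro q -
      by_contra hq
      have hne : Set.range i ≠ Set.univ := fun hu => hq (hu ▸ Set.mem_univ q)
      have h0 := CurveDeg.topologicalKrullDim_le_zero_of_ne_univ (Γ j).dim_eq.le i.isClosedEmbedding.isClosed_range hne
      rw [← IsHomeomorph.topologicalKrullDim_eq _ i.isClosedEmbedding.toHomeomorph.isHomeomorph, hZ] at h0
      exact absurd h0 (by norm_num)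
    have hdeg : ArSurf.inter R (Over.mk p) M (Γ j) =
        Curv2.deg (IsLocalRing.ResidueField R) Y ((Scheme.Modules.pullback (iotaC (Γ j))).obj M) 1 :=
      curveDeg_eq_deg (IsLocalRing.ResidueField R) (Γ j).dim_eq (AmpleVan.isCoh_invertible hMj).1
    rw [hdeg] at hpos
    haveI := (Γ j).isIntegral
    rw [IntNum.deg_pullback_congr (IsLocalRing.ResidueField R) i (𝟙 Y) hsurj hMj]
    refine lt_of_lt_of_eq hpos ?_
    simp only [Curv2.deg, Category.id_comp]
    exact congrArg (· - _) (CurveCohLib.euler_congr (k := IsLocalRing.ResidueField R) ((Scheme.Modules.pullbackId Y).app _).symm)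

end Setting

/-- A regular proper model of a curve has an ample invertible module. -/
theorem exists_isAmple_of_model {C : Scheme.{u}} {f : C ⟶ Spec (CommRingCat.of (FractionRing R))}
    (hC : Curve.IsSmoothProperCurve (FractionRing R) C f) (hX : Models.IsRegularProperModel R X p C f) :
    ∃ L : X.Modules, CohB1.IsAmple L := by
  obtain ⟨g, hg⟩ := hX.1.2.2.2
  haveI := hC.2.2.1
  haveI := hX.1.1
  haveI := hX.2.1
  haveI : IsIntegral X := GRModel.isIntegral_model hX.2.2 hg
  obtain ⟨n, Γ, hΓ⟩ := GRModel.exists_componentList hg hC.2.2.2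
  exact (setting_of_model hX hΓ).exists_isAmple

end Groth.Agent.MdlInter
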