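import Groth.Agent.SurfModel.Blow
import Groth.Agent.GRModel.Centre
import Groth.Agent.Div21Lib.Stalks

/-!
# Making a valuation visible by blowing up
-/

noncomputable section

set_option autoImplicit false
set_option linter.style.haveILetI false
set_option linter.unusedSectionVars false
set_option backward.isDefEq.respectTransparency false
set_option backward.isDefEq.respectTransparency.types false
set_option maxHeartbeats 1000000

universe u

open CategoryTheory CategoryTheory.Limits AlgebraicGeometry TopologicalSpace Polynomial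
open IsLocalRing (maximalIdeal)

namespace Groth.Agent.SurfModel

open Groth.Agent

theorem st_pointIdeal {X : Scheme.{u}} {x : X} (hx : IsClosed ({x} : Set X)) :
    Div21Lib.st (pointIdeal hx) x = maximalIdeal (X.presheaf.stalk x) := by
  obtain ⟨_, ⟨U, hU, rfl⟩, hxU, -⟩ :=
    X.isBasis_affineOpens.exists_subset_of_mem_open (Set.mem_univ x) isOpen_univ
  rw [Div21Lib.st_eq (pointIdeal hx) ⟨U, hU⟩ hxU, CDivEq.stk]
  have hp : (pointIdeal hx).ideal ⟨U, hU⟩ = (IsAffineOpen.primeIdealOf hU ⟨x, hxU⟩).asIdeal := by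
    rw [pointIdeal, Scheme.IdealSheafData.vanishingIdeal_ideal, ← PrimeSpectrum.vanishingIdeal_singleton]
    congr 1
    ext q
    constructor
    · intro hq
      exact (IsAffineOpen.fromSpec hU).isOpenEmbedding.injective
        ((show (IsAffineOpen.fromSpec hU) q = x from hq).trans (IsAffineOpen.fromSpec_primeIdealOf hU ⟨x, hxU⟩).symm)
    · intro hq
      show (IsAffineOpen.fromSpec hU) q = x
      rw [show q = _ from hq]
      exact IsAffineOpen.fromSpec_primeIdealOf hU ⟨x, hxU⟩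
  rw [hp]
  letI := TopCat.Presheaf.algebra_section_stalk X.presheaf (⟨x, hxU⟩ : U)
  haveI := IsAffineOpen.isLocalization_stalk hU ⟨x, hxU⟩
  exact IsLocalization.AtPrime.map_eq_maximalIdeal _ (X.presheaf.stalk x)

variable {R : Type u} [CommRing R] [IsDomain R] [IsDiscreteValuationRing R]
  {C : Scheme.{u}} [IsIntegral C] {f : C ⟶ Spec (CommRingCat.of (FractionRing R))}

namespace RModel

/-- A point is a centre of the valuation ring `V`. -/
def IsCentre (M : RModel f) (V : ValuationSubring C.functionField) (x : M.X) : Prop :=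
  ∃ h : ∀ t, MdlMap.phi M.g (M.spec x) t ∈ V,
    IsLocalHom ((MdlMap.phi M.g (M.spec x)).codRestrict V.toSubring h)

variable {M N : RModel f} {V : ValuationSubring C.functionField}

theorem IsCentre.exists_lift {x : M.X} (hc : M.IsCentre V x) :
    ∃ l : Spec (CommRingCat.of V) ⟶ M.X, l (IsLocalRing.closedPoint V) = x ∧
      Spec.map (CommRingCat.ofHom V.subtype) ≫ l = C.fromSpecStalk (genericPoint C) ≫ M.g ∧
      l ≫ M.p = Spec.map (CommRingCat.ofHom ((GRModel.cst f).codRestrict V.toSubring fun r =>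
        GRModel.phi_stalkHom M.hg (M.spec x) r ▸ hc.1 _)) := by
  obtain ⟨h, hloc⟩ := hc
  let ψ : M.X.presheaf.stalk x ⟶ CommRingCat.of V :=
    CommRingCat.ofHom ((MdlMap.phi M.g (M.spec x)).codRestrict V.toSubring h)
  refine ⟨Spec.map ψ ≫ M.X.fromSpecStalk x, ?_, ?_, ?_⟩
  · haveI : IsLocalHom ψ.hom := hloc
    rw [Scheme.Hom.comp_apply, Spec_closedPoint]
    exact Scheme.fromSpecStalk_closedPoint
  · rw [← Category.assoc, ← Spec.map_comp,
      show ψ ≫ CommRingCat.ofHom V.subtype =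
        M.X.presheaf.stalkSpecializes (M.spec x) ≫ M.g.stalkMap (genericPoint C) from rfl,
      Spec.map_comp, Category.assoc, Scheme.SpecMap_stalkSpecializes_fromSpecStalk,
      Scheme.SpecMap_stalkMap_fromSpecStalk]
  · rw [Category.assoc, ← MdlMap.specMap_stalkHom, ← Spec.map_comp]
    refine congrArg Spec.map (CommRingCat.hom_ext (RingHom.ext fun r => Subtype.ext ?_))
    exact GRModel.phi_stalkHom M.hg (M.spec x) r

theorem IsCentre.unique {x x' : M.X} (hx : M.IsCentre V x) (hx' : M.IsCentre V x') : x = x' := by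
  obtain ⟨l, hl0, hl1, hl2⟩ := hx.exists_lift
  obtain ⟨l', hl0', hl1', hl2'⟩ := hx'.exists_lift
  let ι := Spec.map (CommRingCat.ofHom V.subtype)
  haveI : IsDominant ι := ⟨by
    show DenseRange (PrimeSpectrum.comap V.subtype)
    rw [PrimeSpectrum.denseRange_comap_iff_ker_le_nilRadical]
    rw [(RingHom.injective_iff_ker_eq_bot _).1 Subtype.val_injective]
    exact bot_le⟩
  have e : l = l' := ext_of_isDominant_of_isSeparated M.p (hl2.trans hl2'.symm) ι (hl1.trans hl1'.symm)
  rw [← hl0, ← hl0', e]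

theorem IsMor.isCentre {φ : N.X ⟶ M.X} (hφ : N.IsMor M φ) {z : N.X} (hz : N.IsCentre V z) :
    M.IsCentre V (φ z) := by
  obtain ⟨h, hloc⟩ := hz
  have key : ∀ t, MdlMap.phi M.g (M.spec (φ z)) t = MdlMap.phi N.g (N.spec z) (φ.stalkMap z t) := fun t =>
    ((MdlMap.phi_map N.g φ (N.spec z) t).trans (MdlMap.phi_congr hφ.2 _ t)).symm
  refine ⟨fun t => key t ▸ h _, ⟨fun t ht => ?_⟩⟩
  refine isUnit_of_map_unit (φ.stalkMap z).hom t ?_
  refine hloc.map_nonunit _ ?_
  convert ht using 1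
  exact Subtype.ext (key t).symm

/-- A centre whose local ring is a valuation ring gives back `V`. -/
theorem IsCentre.ring_eq {x : M.X} (hc : M.IsCentre V x) (hm : MdlMap.IsMaxSpecial M.p x) :
    M.ring x = (V : Set C.functionField) := by
  obtain ⟨h, hloc⟩ := hc
  refine MdlMap.eq_of_valSet (M.valSet_of_max hm) ⟨?_, ?_⟩
  · rintro _ ⟨t, rfl⟩
    exact h t
  · rintro _ ⟨t, rfl⟩ hne hmem
    have hu : IsUnit ((MdlMap.phi M.g (M.spec x)).codRestrict V.toSubring h t) :=
      IsUnit.of_mul_eq_one ⟨_, hmem⟩ (Subtype.ext (mul_inv_cancel₀ hne))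
    obtain ⟨v, rfl⟩ := hloc.map_nonunit _ hu
    refine ⟨(v⁻¹ : (M.X.presheaf.stalk x)ˣ), eq_inv_of_mul_eq_one_left ?_⟩
    show MdlMap.phi M.g (M.spec x) _ * MdlMap.phi M.g (M.spec x) _ = 1
    rw [← map_mul, Units.inv_mul, map_one]

theorem IsCentre.mem_special {x : M.X} (hc : M.IsCentre V x) (hπ : ∀ r ∈ maximalIdeal R,
    ∀ (h : GRModel.cst f r ∈ V), ¬ IsUnit (⟨_, h⟩ : V)) : x ∈ Models.specialFibreSet R (Over.mk M.p) := by
  obtain ⟨h, hloc⟩ := hc
  obtain ⟨ϖ, hϖ⟩ := IsDiscreteValuationRing.exists_irreducible R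
  refine (MdlInter.isUnit_pi_iff M.p hϖ.maximalIdeal_eq x).1 fun hu => ?_
  have hmem : GRModel.cst f ϖ ∈ V := GRModel.phi_stalkHom M.hg (M.spec x) ϖ ▸ h _
  refine hπ ϖ (hϖ.maximalIdeal_eq ▸ Ideal.mem_span_singleton_self ϖ) hmem ?_
  rw [show (⟨_, hmem⟩ : V) = (MdlMap.phi M.g (M.spec x)).codRestrict V.toSubring h (MdlInter.pi M.p ϖ x) from
    Subtype.ext (GRModel.phi_stalkHom M.hg (M.spec x) ϖ).symm]
  exact hu.map _

theorem exists_isCentre (M : RModel f) (V : ValuationSubring C.functionField) (hV : ∀ r, GRModel.cst f r ∈ V) :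
    ∃ x : M.X, M.IsCentre V x := by
  obtain ⟨x, hx, h, hloc⟩ := GRModel.exists_centre M.hg V hV
  exact ⟨x, h, hloc⟩

/-- Blowing up the centre finitely often makes `V` the valuation ring of a component. -/
theorem exists_reach_of_residual (hdim : topologicalKrullDim C = 1) (V : ValuationSubring C.functionField)
    [IsDiscreteValuationRing V] (cV : R →+* V) (hcV : ∀ r, (cV r : C.functionField) = GRModel.cst f r)
    (hπ : ∀ r ∈ maximalIdeal R, ¬ IsUnit (cV r))
    (v : V) (hv : ∀ P : R[X], P.Monic → IsUnit (P.eval₂ cV v)) (M : RModel f) :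
    ∃ (M' : RModel f) (φ : M'.X ⟶ M.X), M'.IsMor M φ ∧ (V : Set C.functionField) ∈ M'.vals := by
  classical
  suffices key : ∀ (d : V) (M : RModel f) (x : M.X) (hc : M.IsCentre V x),
      ∀ a₁ b₁ : M.X.presheaf.stalk x, b₁ ≠ 0 → (MdlMap.phi M.g (M.spec x) b₁ : C.functionField) = d →
        (v : C.functionField) * MdlMap.phi M.g (M.spec x) b₁ = MdlMap.phi M.g (M.spec x) a₁ →
        ∃ (M' : RModel f) (φ : M'.X ⟶ M.X), M'.IsMor M φ ∧ (V : Set C.functionField) ∈ M'.vals by
    obtain ⟨x, hc⟩ := M.exists_isCentre V fun r => hcV r ▸ (cV r).2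
    haveI := (M.normal x).1
    haveI : IsIso (M.X.presheaf.stalkSpecializes (specializes_of_eq M.g_generic)) :=
      BirNormal.isIso_stalkSpecializes_of_eq M.g_generic _
    let ε := M.X.presheaf.stalkSpecializes (specializes_of_eq M.g_generic) ≫ M.g.stalkMap (genericPoint C)
    obtain ⟨u, hu⟩ := (ConcreteCategory.bijective_of_isIso ε).2 (v : C.functionField)
    obtain ⟨⟨a₁, b₁⟩, hab⟩ := IsLocalization.surj (nonZeroDivisors (M.X.presheaf.stalk x)) (u : M.X.functionField)
    have halg : ∀ a : M.X.presheaf.stalk x,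
        ε (algebraMap (M.X.presheaf.stalk x) M.X.functionField a) = MdlMap.phi M.g (M.spec x) a := fun a => by
      show (M.X.presheaf.stalkSpecializes ((genericPoint_spec M.X).specializes trivial) ≫ ε) a = _
      simp only [ε]
      rw [← Category.assoc, TopCat.Presheaf.stalkSpecializes_comp]
      rfl
    refine key ⟨_, hc.1 b₁⟩ M x hc a₁ b₁ (nonZeroDivisors.ne_zero b₁.2) rfl ?_
    rw [← hu, ← halg, ← halg, ← map_mul, hab]
  intro d
  induction d using (wellFounded_dvdNotUnit (α := V)).induction with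
  | h d ih =>
  intro M x hc a₁ b₁ hb₁ hbd hab
  by_cases hm : MdlMap.IsMaxSpecial M.p x
  · exact ⟨M, 𝟙 M.X, ⟨Category.id_comp _, Category.comp_id _⟩, x, hm, hc.ring_eq hm⟩
  have hxF := hc.mem_special (fun r hr h hu => hπ r hr (by
    rwa [show cV r = ⟨_, h⟩ from Subtype.ext (hcV r)]))
  have hxcl : IsClosed ({x} : Set M.X) := by
    rw [← closure_eq_iff_isClosed]
    refine Set.Subset.antisymm (fun y hy => ?_) subset_closure
    by_contra hne
    have hy' : x ⤳ y := specializes_iff_mem_closure.2 hy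
    exact hm (MdlMap.isMaxSpecial_of_ne M.hg hdim.le hxF
      (hy'.mem_closed (Models.isClosed_specialFibreSet R (Over.mk M.p)) hxF) hy' fun e => hne e.symm)
  obtain ⟨hφ, hloc⟩ := id hc
  let ψ : M.X.presheaf.stalk x →+* V := (MdlMap.phi M.g (M.spec x)).codRestrict V.toSubring hφ
  haveI : IsLocalHom ψ := hloc
  have hψd : ψ b₁ = d := Subtype.ext hbd
  have hψa : v * d = ψ a₁ := hψd ▸ Subtype.ext hab
  -- the numerator and denominator lie in the maximal ideal
  have hbm : b₁ ∈ maximalIdeal (M.X.presheaf.stalk x) := by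
    by_contra hne
    obtain ⟨ub, hub⟩ := IsLocalRing.notMem_maximalIdeal.1 hne
    let c : M.X.presheaf.stalk x := a₁ * ↑ub⁻¹
    have hψc : ψ c = v := by
      rw [map_mul, ← hψa, ← hψd, mul_assoc, ← map_mul, ← hub, Units.mul_inv, map_one, mul_one]
    let φR : R →+* M.X.residueField x := (M.X.residue x).hom.comp (Models.stalkHom R (Over.mk M.p) x)
    have hfinR : φR.Finite := by
      haveI : IsClosedImmersion (M.X.fromSpecResidueField x) :=
        IsClosedImmersion.of_isPreimmersion _ (by rw [Scheme.range_fromSpecResidueField]; exact hxcl)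
      have h1 : IsFinite (M.X.fromSpecResidueField x ≫ M.p) := by
        rw [IsFinite.iff_isProper_and_isAffineHom]
        exact ⟨inferInstance, inferInstance⟩
      have h2 : M.X.fromSpecResidueField x ≫ M.p = Spec.map (CommRingCat.ofHom φR) := by
        rw [Scheme.fromSpecResidueField, Category.assoc, ← MdlMap.specMap_stalkHom, ← Spec.map_comp]
        rfl
      rw [h2] at h1
      exact (IsFinite.SpecMap_iff _).1 h1
    obtain ⟨P, hPm, hP⟩ := hfinR.to_isIntegral (M.X.residue x c)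
    have hP' : P.eval₂ (Models.stalkHom R (Over.mk M.p) x) c ∈ maximalIdeal (M.X.presheaf.stalk x) := by
      refine (IsLocalRing.residue_eq_zero_iff _).1 ?_
      show (M.X.residue x).hom (P.eval₂ _ c) = 0
      rw [Polynomial.hom_eval₂]
      exact hP
    have h3 := hv P hPm
    rw [← hψc, show cV = ψ.comp (Models.stalkHom R (Over.mk M.p) x) from
      RingHom.ext fun r => Subtype.ext ((hcV r).trans (GRModel.phi_stalkHom M.hg (M.spec x) r).symm),
      ← Polynomial.hom_eval₂] at h3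
    exact (IsLocalRing.mem_maximalIdeal _).1 hP' (hloc.map_nonunit _ h3)
  have ham : a₁ ∈ maximalIdeal (M.X.presheaf.stalk x) := by
    rw [IsLocalRing.mem_maximalIdeal, mem_nonunits_iff]
    intro hu
    have h1 := hu.map ψ
    rw [← hψa, ← hψd] at h1
    exact (IsLocalRing.mem_maximalIdeal _).1 hbm (hloc.map_nonunit _ (isUnit_of_mul_isUnit_right h1))
  -- blow up
  obtain ⟨M₁, β, w, G, hβ, hblow, -, -, -, -, -, -, -⟩ := M.exists_blow hdim hxF hxcl
  obtain ⟨x₁, hc₁⟩ := M₁.exists_isCentre V fun r => hcV r ▸ (cV r).2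
  have hβx : β x₁ = x := (hβ.isCentre hc₁).unique hc
  subst hβx
  obtain ⟨t, -, ht⟩ := Div21Lib.exists_gen _ hblow.1 x₁
  rw [Div21Lib.st_comap, st_pointIdeal hxcl] at ht
  have hmem : ∀ a ∈ maximalIdeal (M.X.presheaf.stalk (β x₁)), ∃ a', β.stalkMap x₁ a = t * a' := fun a ha => by
    have := ht.le (Ideal.mem_map_of_mem _ ha)
    obtain ⟨a', ha'⟩ := Ideal.mem_span_singleton'.1 this
    exact ⟨a', ha'.symm.trans (mul_comm _ _)⟩
  obtain ⟨a', ha'⟩ := hmem a₁ ham
  obtain ⟨b', hb'⟩ := hmem b₁ hbm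
  obtain ⟨h₁, hloc₁⟩ := id hc₁
  let ψ₁ : M₁.X.presheaf.stalk x₁ →+* V := (MdlMap.phi M₁.g (M₁.spec x₁)).codRestrict V.toSubring h₁
  haveI : IsLocalHom ψ₁ := hloc₁
  have hcomp : ∀ a, ψ₁ (β.stalkMap x₁ a) = ψ a := fun a =>
    Subtype.ext ((MdlMap.phi_map M₁.g β (M₁.spec x₁) a).trans (MdlMap.phi_congr hβ.2 _ a))
  have hψinj : Function.Injective ψ := fun p q h =>
    MdlMap.phi_injective M.g M.g_generic (M.spec _) (congrArg Subtype.val h)
  have hd0 : d ≠ 0 := fun e => hb₁ (hψinj (by rw [hψd, e, map_zero]))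
  have hfac : d = ψ₁ t * ψ₁ b' := by rw [← hψd, ← hcomp, hb', map_mul]
  have ht0 : ψ₁ t ≠ 0 := fun e => hd0 (by rw [hfac, e, zero_mul])
  have htm : ¬ IsUnit (ψ₁ t) := fun hu => by
    have h0 : (maximalIdeal (M.X.presheaf.stalk (β x₁))).map (β.stalkMap x₁).hom ≤
        maximalIdeal (M₁.X.presheaf.stalk x₁) :=
      Ideal.map_le_iff_le_comap.2 fun a ha => by
        rw [Ideal.mem_comap, IsLocalRing.mem_maximalIdeal, mem_nonunits_iff]
        exact fun h => (IsLocalRing.mem_maximalIdeal _).1 ha (isUnit_of_map_unit _ _ h)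
    exact (IsLocalRing.mem_maximalIdeal _).1 ((ht.symm ▸ h0) (Ideal.mem_span_singleton_self t))
      (hloc₁.map_nonunit _ hu)
  have hb'0 : b' ≠ 0 := fun e => hd0 (by rw [hfac, e, map_zero, mul_zero])
  obtain ⟨M', φ, hφ', hV'⟩ := ih (ψ₁ b') ⟨fun e => hd0 (by rw [hfac, e, mul_zero]), ψ₁ t, htm,
      hfac.trans (mul_comm _ _)⟩ M₁ x₁ hc₁ a' b' hb'0 rfl (by
    have h1 : ψ₁ t * (v * ψ₁ b') = ψ₁ t * ψ₁ a' := by
      rw [← map_mul ψ₁ t a', ← ha', hcomp, ← hψa, hfac]
      ring
    exact congrArg Subtype.val (mul_left_cancel₀ ht0 h1))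
  exact ⟨M', φ ≫ β, hφ'.comp hβ, hV'⟩

/-- Any component of another model can be made visible by blowing up. -/
theorem exists_reach (hdim : topologicalKrullDim C = 1) (M N : RModel f) {S : Set C.functionField}
    (hS : S ∈ N.vals) : ∃ (M' : RModel f) (φ : M'.X ⟶ M.X), M'.IsMor M φ ∧ S ∈ M'.vals := by
  classical
  obtain ⟨y, hy, rfl⟩ := hS
  haveI := (N.normal y).1
  haveI hvr := MdlMap.valuationRing_max N.normal hy
  let φ₀ : N.X.presheaf.stalk y →+* C.functionField := MdlMap.phi N.g (N.spec y)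
  have hinj : Function.Injective φ₀ := MdlMap.phi_injective N.g N.g_generic (N.spec y)
  let V : ValuationSubring C.functionField := ValuationSubring.ofSubring φ₀.range (N.valSet_of_max hy)
  let eV : N.X.presheaf.stalk y ≃+* V :=
    RingEquiv.ofBijective (φ₀.codRestrict V.toSubring fun a => ⟨a, rfl⟩)
      ⟨fun a b h => hinj (congrArg Subtype.val h), fun ⟨t, a, ha⟩ => ⟨a, Subtype.ext ha⟩⟩
  let cV : R →+* V := eV.toRingHom.comp (Models.stalkHom R (Over.mk N.p) y)
  have hcV : ∀ r, (cV r : C.functionField) = GRModel.cst f r := fun r => GRModel.phi_stalkHom N.hg (N.spec y) r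
  obtain ⟨ϖ, hϖ⟩ := IsDiscreteValuationRing.exists_irreducible R
  have hπ : ∀ r ∈ maximalIdeal R, Models.stalkHom R (Over.mk N.p) y r ∈ maximalIdeal (N.X.presheaf.stalk y) := fun r hr => by
    rw [hϖ.maximalIdeal_eq, Ideal.mem_span_singleton'] at hr
    obtain ⟨s, rfl⟩ := hr
    rw [map_mul]
    exact Ideal.mul_mem_left _ _ ((MdlInter.isUnit_pi_iff N.p hϖ.maximalIdeal_eq y).2 hy.1)
  haveI : IsDiscreteValuationRing V := by
    haveI : IsNoetherianRing (N.X.presheaf.stalk y) := inferInstance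
    haveI : IsNoetherianRing V := isNoetherianRing_of_ringEquiv _ eV
    haveI : IsPrincipalIdealRing (N.X.presheaf.stalk y) :=
      ((IsBezout.TFAE (R := N.X.presheaf.stalk y)).out 0 1).1 ‹_›
    haveI : IsPrincipalIdealRing V := IsPrincipalIdealRing.of_surjective eV.toRingHom eV.surjective
    refine { not_a_field' := fun h => ?_ }
    have hm : cV ϖ ∈ maximalIdeal V := by
      rw [IsLocalRing.mem_maximalIdeal, mem_nonunits_iff]
      exact fun hu => (IsLocalRing.mem_maximalIdeal _).1 (hπ ϖ (hϖ.maximalIdeal_eq ▸ Ideal.mem_span_singleton_self ϖ))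
        ((MulEquiv.isUnit_map eV).1 hu)
    rw [h, Submodule.mem_bot] at hm
    exact MdlInter.pi_ne_zero N.p hϖ.ne_zero y ((map_eq_zero_iff eV eV.injective).1 hm)
  -- an element with transcendental residue
  obtain ⟨z, hyz, hne⟩ : ∃ z, y ⤳ z ∧ y ≠ z := by
    by_contra hcon
    push Not at hcon
    refine GRModel.not_isClosed_of_isMaxSpecial N.hg hdim hy ?_
    rw [← closure_eq_iff_isClosed]
    exact Set.Subset.antisymm (fun z hz => (hcon z (specializes_iff_mem_closure.2 hz)).symm) subset_closure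
  let sp : N.X.presheaf.stalk z →+* N.X.presheaf.stalk y := (N.X.presheaf.stalkSpecializes hyz).hom
  have hne' : ¬ maximalIdeal (N.X.presheaf.stalk z) ≤ (maximalIdeal (N.X.presheaf.stalk y)).comap sp := by
    intro hle
    haveI : IsLocalHom sp := ⟨fun a ha => by
      by_contra hna
      exact (IsLocalRing.mem_maximalIdeal _).1 (hle ((IsLocalRing.mem_maximalIdeal a).2 hna)) ha⟩
    refine hne ?_
    have := congrArg (fun s : Spec (N.X.presheaf.stalk y) ⟶ N.X => s (IsLocalRing.closedPoint _))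
      (Scheme.SpecMap_stalkSpecializes_fromSpecStalk (X := N.X) hyz)
    simp only [Scheme.Hom.comp_apply, Scheme.fromSpecStalk_closedPoint, Spec_closedPoint] at this
    exact this.symm
  obtain ⟨a, ham, hay⟩ := SetLike.not_le_iff_exists.1 hne'
  let cy : R →+* N.X.presheaf.stalk y := Models.stalkHom R (Over.mk N.p) y
  let cz : R →+* N.X.presheaf.stalk z := Models.stalkHom R (Over.mk N.p) z
  have hspc : ∀ r, sp (cz r) = cy r := fun r =>
    TopCat.Presheaf.germ_stalkSpecializes_apply N.X.presheaf (U := ⊤) trivial hyz _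
  have hv : ∀ P : R[X], P.Monic → IsUnit (P.eval₂ cV (eV (sp a))) := by
    intro P hP
    show IsUnit (P.eval₂ (eV.toRingHom.comp _) (eV.toRingHom (sp a)))
    rw [← Polynomial.hom_eval₂]
    refine IsUnit.map eV.toRingHom ?_
    by_contra hnu
    have hPy : P.eval₂ cy (sp a) ∈ maximalIdeal (N.X.presheaf.stalk y) := hnu
    let res := IsLocalRing.residue R
    have hne0 : P.map res ≠ 0 := (hP.map res).ne_zero
    obtain ⟨Q₀, hQ₀, hQ₁⟩ := Polynomial.exists_eq_pow_rootMultiplicity_mul_and_not_dvd (P.map res) hne0 0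
    rw [map_zero, sub_zero] at hQ₀ hQ₁
    obtain ⟨Q, rfl⟩ := Polynomial.map_surjective res IsLocalRing.residue_surjective Q₀
    set i := rootMultiplicity 0 (P.map res)
    have hd : (P - Polynomial.X ^ i * Q).map res = 0 := by
      rw [Polynomial.map_sub, Polynomial.map_mul, Polynomial.map_pow, Polynomial.map_X, sub_eq_zero]
      exact hQ₀
    have hd' : (P - Polynomial.X ^ i * Q).eval₂ cy (sp a) ∈ maximalIdeal (N.X.presheaf.stalk y) := by
      rw [eval₂_eq_sum_range]
      refine Ideal.sum_mem _ fun j _ => Ideal.mul_mem_right _ _ (hπ _ ?_)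
      rw [← IsLocalRing.residue_eq_zero_iff, ← Polynomial.coeff_map, hd, Polynomial.coeff_zero]
    rw [eval₂_sub, eval₂_mul, eval₂_X_pow] at hd'
    have h2 : (sp a) ^ i * Q.eval₂ cy (sp a) ∈ maximalIdeal (N.X.presheaf.stalk y) := by
      have := sub_mem hPy hd'
      rwa [sub_sub_cancel] at this
    have h3 : Q.eval₂ cy (sp a) ∈ maximalIdeal (N.X.presheaf.stalk y) :=
      ((IsLocalRing.maximalIdeal.isMaximal (N.X.presheaf.stalk y)).isPrime.mem_or_mem h2).resolve_left
        fun h => hay (Ideal.mem_comap.2 (Ideal.IsPrime.mem_of_pow_mem inferInstance i h))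
    have e : Q.eval₂ cy (sp a) = sp (Q.eval₂ cz a) := by
      rw [Polynomial.hom_eval₂, show sp.comp cz = cy from RingHom.ext hspc]
    have h4 : Q.eval₂ cz a ∈ maximalIdeal (N.X.presheaf.stalk z) := by
      rw [IsLocalRing.mem_maximalIdeal, mem_nonunits_iff]
      intro hu
      exact (IsLocalRing.mem_maximalIdeal _).1 h3 (e ▸ hu.map sp)
    have hsum : cz (Q.coeff 0) ∈ maximalIdeal (N.X.presheaf.stalk z) := by
      conv at h4 => rw [← Polynomial.X_mul_divX_add Q, eval₂_add, eval₂_mul, eval₂_X, eval₂_C]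
      exact (Ideal.add_mem_iff_right _ (Ideal.mul_mem_right _ _ ham)).1 h4
    refine hQ₁ (Polynomial.X_dvd_iff.2 ?_)
    rw [Polynomial.coeff_map]
    refine (IsLocalRing.residue_eq_zero_iff _).2 ?_
    rw [IsLocalRing.mem_maximalIdeal, mem_nonunits_iff]
    exact fun hu => (IsLocalRing.mem_maximalIdeal _).1 hsum (hu.map _)
  obtain ⟨M', φ, hφ, hV⟩ := exists_reach_of_residual hdim V cV hcV (fun r hr hu =>
    (IsLocalRing.mem_maximalIdeal _).1 (hπ r hr) ((MulEquiv.isUnit_map eV).1 hu)) (eV (sp a)) hv M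
  exact ⟨M', φ, hφ, hV⟩

/-- A common dominating model. -/
theorem exists_dominating (hdim : topologicalKrullDim C = 1) (M N : RModel f) :
    ∃ (M' : RModel f) (φ : M'.X ⟶ M.X) (ψ : M'.X ⟶ N.X), M'.IsMor M φ ∧ M'.IsMor N ψ := by
  suffices h : ∀ S : Finset (Set C.functionField), (↑S : Set _) ⊆ N.vals →
      ∃ (M' : RModel f) (φ : M'.X ⟶ M.X), M'.IsMor M φ ∧ (↑S : Set _) ⊆ M'.vals by
    obtain ⟨M', φ, hφ, hsub⟩ := h N.finite_vals.toFinset (by rw [Set.Finite.coe_toFinset])
    rw [Set.Finite.coe_toFinset] at hsub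
    obtain ⟨ψ, hψ⟩ := exists_mor hdim hsub
    exact ⟨M', φ, ψ, hφ, hψ⟩
  intro S
  classical
  induction S using Finset.induction with
  | empty => intro _; exact ⟨M, 𝟙 _, ⟨Category.id_comp _, Category.comp_id _⟩, by simp⟩
  | insert s S _ ih =>
    intro hS
    rw [Finset.coe_insert, Set.insert_subset_iff] at hS
    obtain ⟨M₁, φ₁, hφ₁, h₁⟩ := ih hS.2
    obtain ⟨M₂, φ₂, hφ₂, h₂⟩ := exists_reach hdim M₁ N hS.1
    refine ⟨M₂, φ₂ ≫ φ₁, hφ₂.comp hφ₁, ?_⟩
    rw [Finset.coe_insert]
    exact Set.insert_subset h₂ (h₁.trans hφ₂.vals_subset)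

end RModel

end Groth.Agent.SurfModel
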